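import Cfsg.Agent.Lib.Blocks.DihedralDefect.Height

/-!
# The multiplicities of the induced generalized characters
-/

set_option autoImplicit false

namespace CfsgLib.Blocks.DihedralDefect

open Cfsg CfsgLib.Blocks CfsgLib.Pairs CfsgLib.Star CfsgLib.Char
open scoped Classical ComplexConjugate

variable {G : Type*} [Group G] [Fintype G] {M : Ideal AlgInt} [M.IsPrime] [Fact (Nat.Prime 2)]
variable {H : Subgroup G} {B : Set (IrrCharacter G)}
  {b : Set (IrrCharacter H)} {D : Subgroup H} {σ τ : H} {q : ℕ} {l : Subgroup.zpowers σ →* ℂˣ}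
  {e : Set (IrrCharacter (Subgroup.centralizer (D : Set H)))} {F : FusionSystem D}
  {ξ₀ : IrrCharacter H} {Φ : IrrCharacter D ≃ b} [Fintype (IrrCharacter D)]
  (C : Ctx M B b D σ τ q l e F ξ₀ Φ)

/-- The multiplicity of a character in the induced generalized character of index `j`. -/
noncomputable def Ctx.coef (j : ℕ) (χ : IrrCharacter G) : ℤ := (C.exists_int_coeff j χ).choose

/-- The alternating sum of the multiplicities. -/
noncomputable def Ctx.cc (χ : IrrCharacter G) : ℤ :=
  ∑ j ∈ Finset.range (2 * q), (-1) ^ (j + 1) * C.coef j χ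

include C

theorem Ctx.coef_spec (j : ℕ) (χ : IrrCharacter G) :
    classInner (indFun H (comb Φ (dlt l j))) (χ : G → ℂ) = (C.coef j χ : ℂ) :=
  (C.exists_int_coeff j χ).choose_spec

theorem Ctx.coef_outside (j : ℕ) {χ : IrrCharacter G} (hχ : χ ∉ B) : C.coef j χ = 0 := by
  have h := C.coef_spec j χ
  rw [C.coeff_eq_zero j hχ] at h
  exact_mod_cast h.symm

theorem Ctx.coef_zero (χ : IrrCharacter G) : C.coef 0 χ = 0 := by
  have h := C.coef_spec 0 χ
  have h0 : comb Φ (dlt l 0) = 0 := by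
    funext g
    simp [comb, dlt_zero, classInner]
  rw [h0, indFun_zero, classInner, Finset.sum_eq_zero fun g _ => by rw [Pi.zero_apply, zero_mul],
    mul_zero] at h
  exact_mod_cast h.symm

theorem Ctx.coef_symm {j : ℕ} (hj : j ≤ 2 * q) (χ : IrrCharacter G) :
    C.coef (2 * q - j) χ = C.coef j χ := by
  have h := C.coef_spec (2 * q - j) χ
  rw [show (dlt l (2 * q - j) : H → ℂ) = dlt l j from funext (C.dih.dlt_symm hj), C.coef_spec] at h
  exact_mod_cast h.symm

theorem Ctx.hmem (x : G) (hx : Commute x ((σ ^ q : H) : G)) : x ∈ H := C.mem_of_commute hx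

/-- The induced generalized character as a combination of the members of the block. -/
theorem Ctx.indFun_eq_sum (j : ℕ) (g : G) :
    indFun H (comb Φ (dlt l j)) g =
      ∑ χ ∈ (Set.toFinite B).toFinset, (C.coef j χ : ℂ) * (χ : G → ℂ) g := by
  have := Fintype.ofFinite (IrrCharacter G)
  rw [classFunction_apply_eq_sum (isClassFunction_indFun H (comb Φ (dlt l j))) g,
    Finset.sum_subset (Finset.subset_univ (Set.toFinite B).toFinset) fun χ _ hχ => by
      rw [C.coef_outside j (fun h => hχ ((Set.Finite.mem_toFinset _).2 h)), Int.cast_zero, zero_mul]]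
  exact Finset.sum_congr rfl fun χ _ => by rw [C.coef_spec]

theorem Ctx.classInner_indFun (i j : ℕ) :
    ((∑ χ ∈ (Set.toFinite B).toFinset, C.coef i χ * C.coef j χ : ℤ) : ℂ) =
      classInner (fun x : D => dlt l i (x : H)) (fun x : D => dlt l j (x : H)) := by
  rw [← C.loc.classInner_comb (C.isClassFunction_restrict i) (C.isClassFunction_restrict j),
    ← classInner_indFun_indFun C.z_sq C.z_ne C.hmem (isClassFunction_comb _) (C.supp_dlt i)
      (C.supp_dlt j),
    show indFun H (comb Φ (dlt l i)) = ∑ χ ∈ (Set.toFinite B).toFinset,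
      (C.coef i χ : ℂ) • (χ : G → ℂ) from funext fun g => by
        rw [C.indFun_eq_sum, Finset.sum_apply]; rfl, classInner_sum_left]
  push_cast
  refine Finset.sum_congr rfl fun χ _ => ?_
  rw [classInner_smul_left, ← classInner_conj_symm, C.coef_spec, map_intCast]

theorem Ctx.gram {i j : ℕ} (hi : i ∈ Finset.Icc 1 q) (hj : j ∈ Finset.Icc 1 q) :
    ∑ χ ∈ (Set.toFinite B).toFinset, C.coef i χ * C.coef j χ =
      2 + (if i = j then 1 else 0) + (if i = q ∧ j = q then 1 else 0) := by
  have h := (C.classInner_indFun i j).trans (C.dih.classInner_dlt_dlt hi hj)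
  exact_mod_cast h

theorem Ctx.sum_coef_degree (j : ℕ) :
    ∑ χ ∈ (Set.toFinite B).toFinset, C.coef j χ * (charDegree (χ : G → ℂ) : ℤ) = 0 := by
  have h := C.indFun_eq_sum j 1
  rw [indFun_apply_one] at h
  have h0 : comb Φ (dlt l j) 1 = 0 := by
    by_contra hne
    obtain ⟨m, hm⟩ := C.supp_dlt j 1 hne
    exact C.z_ne (by simpa using hm.symm)
  rw [h0, mul_zero] at h
  simp only [apply_one_eq_charDegree] at h
  exact_mod_cast h.symm

/-- The relations on the regular elements. -/
theorem Ctx.sum_coef_regular (j : ℕ) {g : G} (hg : ¬ 2 ∣ orderOf g) :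
    ∑ χ ∈ (Set.toFinite B).toFinset, (C.coef j χ : ℂ) * (χ : G → ℂ) g = 0 := by
  rw [← C.indFun_eq_sum]
  refine indFun_eq_zero_of_not_supp (C.supp_dlt j) fun x hx => hg ?_
  have h2 := hx.not_two_dvd C.z_sq C.z_ne
  have h3 := MulEquiv.orderOf_eq (MulAut.conj x⁻¹) g
  rw [MulAut.conj_apply, inv_inv] at h3
  rwa [h3] at h2

omit [Fact (Nat.Prime 2)] [M.IsPrime] C in
theorem comb_add_smul (c : ℕ → ℂ) (a : ℕ → H → ℂ) (s : Finset ℕ) :
    comb Φ (fun g => ∑ j ∈ s, c j * a j g) = ∑ j ∈ s, c j • comb Φ (a j) := by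
  simp only [comb, Finset.smul_sum, smul_smul]
  rw [Finset.sum_comm]
  refine Finset.sum_congr rfl fun η _ => ?_
  rw [← Finset.sum_smul]
  congr 1
  rw [show (fun x : D => ∑ j ∈ s, c j * a j (x : H)) =
    ∑ j ∈ s, c j • (fun x : D => a j (x : H)) from funext fun x => by simp, classInner_sum_left]
  exact Finset.sum_congr rfl fun j _ => classInner_smul_left _ _ _

omit [Fintype (IrrCharacter D)] in
theorem Ctx.card_D : (Nat.card D : ℂ) = 4 * (q : ℂ) := by
  rw [C.dih.card]
  push_cast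
  ring

/-- The function supported at the central involution. -/
theorem Ctx.comb_alternating :
    ∑ j ∈ Finset.range (2 * q), (-1 : ℂ) ^ (j + 1) • comb Φ (dlt l j) =
      comb Φ (fun g : H => if g = σ ^ q then 4 * (q : ℂ) else 0) := by
  rw [← comb_add_smul]
  exact congrArg _ (funext fun g => by convert C.dih.sum_alternating g)

omit [Fintype (IrrCharacter D)] in
theorem Ctx.isClassFunction_zfun :
    IsClassFunction D fun x : D => if (x : H) = σ ^ q then 4 * (q : ℂ) else 0 := by
  intro g y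
  refine if_congr ?_ rfl rfl
  simp only [Subgroup.coe_mul, Subgroup.coe_inv]
  rw [mul_inv_eq_iff_eq_mul, (C.z_central (y : H)).eq]
  exact mul_right_inj _

omit [Fintype (IrrCharacter D)] in
theorem Ctx.classInner_zfun (f : D → ℂ) :
    classInner (fun x : D => if (x : H) = σ ^ q then 4 * (q : ℂ) else 0) f =
      conj (f ⟨σ ^ q, C.dih.z_mem⟩) := by
  have hq0 : (q : ℂ) ≠ 0 := Nat.cast_ne_zero.2 (by have := C.dih.two_le; omega)
  rw [classInner, Finset.sum_eq_single (⟨σ ^ q, C.dih.z_mem⟩ : D)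
    (fun x _ hx => by rw [if_neg fun e => hx (Subtype.ext e), zero_mul])
    (fun h => absurd (Finset.mem_univ _) h), if_pos rfl, C.card_D]
  field_simp

theorem Ctx.cc_spec (χ : IrrCharacter G) :
    (C.cc χ : ℂ) = classInner (indFun H (comb Φ
      (fun g : H => if g = σ ^ q then 4 * (q : ℂ) else 0))) (χ : G → ℂ) := by
  rw [← C.comb_alternating, indFun_sum, classInner_sum_left, Ctx.cc]
  push_cast
  refine Finset.sum_congr rfl fun j _ => ?_
  rw [indFun_smul, classInner_smul_left, C.coef_spec]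

theorem Ctx.sum_cc_sq :
    ∑ χ ∈ (Set.toFinite B).toFinset, C.cc χ ^ 2 = ((4 * q : ℕ) : ℤ) := by
  set zf : H → ℂ := fun g : H => if g = σ ^ q then 4 * (q : ℂ) else 0 with hzf
  have hcl : IsClassFunction D fun x : D => zf (x : H) := C.isClassFunction_zfun
  have hsupp : ∀ g : H, comb Φ zf g ≠ 0 → Supp ((σ ^ q : H) : G) (g : G) :=
    C.supp_of_comb_ne_zero hcl (by rw [hzf]; exact if_neg fun e => C.dih.z_ne e.symm)
      fun x _ hx => if_neg fun e : x = σ ^ q => hx (e ▸ Subgroup.npow_mem_zpowers σ q)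
  have h1 : classInner (indFun H (comb Φ zf)) (indFun H (comb Φ zf)) = 4 * (q : ℂ) := by
    rw [classInner_indFun_indFun C.z_sq C.z_ne C.hmem (isClassFunction_comb _) hsupp hsupp,
      C.loc.classInner_comb hcl hcl, C.classInner_zfun]
    simp only [hzf, if_pos, map_mul, map_ofNat, map_natCast]
  have h2 : indFun H (comb Φ zf) =
      ∑ χ ∈ (Set.toFinite B).toFinset, (C.cc χ : ℂ) • (χ : G → ℂ) := by
    have := Fintype.ofFinite (IrrCharacter G)
    rw [Finset.sum_subset (Finset.subset_univ (Set.toFinite B).toFinset) fun χ _ hχ => ?_,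
      Finset.sum_congr rfl fun χ _ => by rw [C.cc_spec χ]]
    · exact classFunction_eq_sum (isClassFunction_indFun _ _)
    · rw [Ctx.cc, Finset.sum_eq_zero fun j _ => by
        rw [C.coef_outside j fun h => hχ ((Set.Finite.mem_toFinset _).2 h), mul_zero],
        Int.cast_zero, zero_smul]
  nth_rw 1 [h2] at h1
  rw [classInner_sum_left] at h1
  have h3 : ((∑ χ ∈ (Set.toFinite B).toFinset, C.cc χ ^ 2 : ℤ) : ℂ) = 4 * (q : ℂ) := by
    rw [← h1]
    push_cast
    refine Finset.sum_congr rfl fun χ _ => ?_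
    rw [classInner_smul_left, ← classInner_conj_symm, ← C.cc_spec, map_intCast]
    ring
  exact_mod_cast h3

/-- The part of a translate by the central involution in the local block. -/
theorem Ctx.blockPart_translate (χ : IrrCharacter G) {w : H} (hw : ¬ 2 ∣ orderOf w) :
    blockPart b (fun c : H => (χ : G → ℂ) (((σ ^ q : H) : G) * (c : G))) w =
      (C.cc χ : ℂ) * ((ξ₀ : H → ℂ) (σ ^ q) / (ξ₀ : H → ℂ) 1) * (ξ₀ : H → ℂ) w := by
  have hcc : (C.cc χ : ℂ) = ∑ η : IrrCharacter D, (η : D → ℂ) ⟨σ ^ q, C.dih.z_mem⟩ *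
      classInner (fun c : H => (χ : G → ℂ) c) ((Φ η : IrrCharacter H) : H → ℂ) := by
    rw [C.cc_spec, frobenius_reciprocity _ _ (Char.IsIrr.isClassFunction χ.2),
      C.loc.classInner_comb_right]
    refine Finset.sum_congr rfl fun η _ => ?_
    congr 1
    · rw [C.classInner_zfun, ← Char.IsIrr.map_inv η.2]
      exact congrArg _ (inv_eq_of_mul_eq_one_right (Subtype.ext C.dih.z_sq))
    · obtain ⟨n, hn⟩ := IsChar.classInner_eq_natCast
        (IsChar.restrict H (Char.IsIrr.isCharacter χ.2))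
        (Char.IsIrr.isCharacter (Φ η : IrrCharacter H).2)
      rw [← classInner_conj_symm, hn, map_natCast]
  have hsum : blockPart b (fun c : H => (χ : G → ℂ) (((σ ^ q : H) : G) * (c : G))) w =
      ∑ η : IrrCharacter D,
        classInner (fun c : H => (χ : G → ℂ) (((σ ^ q : H) : G) * (c : G)))
          ((Φ η : IrrCharacter H) : H → ℂ) * ((Φ η : IrrCharacter H) : H → ℂ) w := by
    have := Fintype.ofFinite b
    rw [blockPart_eq, finsum_mem_eq_finite_toFinset_sum _ (Set.toFinite b),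
      Finset.sum_subtype (p := fun ψ => ψ ∈ b) _ (fun ψ => Set.Finite.mem_toFinset _)]
    exact (Φ.sum_comp fun ψ : b => classInner
      (fun c : H => (χ : G → ℂ) (((σ ^ q : H) : G) * (c : G)))
        ((ψ : IrrCharacter H) : H → ℂ) * ((ψ : IrrCharacter H) : H → ℂ) w).symm
  rw [hsum, hcc, Finset.sum_mul, Finset.sum_mul]
  refine Finset.sum_congr rfl fun η _ => ?_
  have h1 : classInner (fun c : H => (χ : G → ℂ) (((σ ^ q : H) : G) * (c : G)))
      ((Φ η : IrrCharacter H) : H → ℂ) = ((Φ η : IrrCharacter H) : H → ℂ) (σ ^ q) /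
        ((Φ η : IrrCharacter H) : H → ℂ) 1 *
          classInner (fun c : H => (χ : G → ℂ) c) ((Φ η : IrrCharacter H) : H → ℂ) :=
    classInner_translate (fun c : H => (χ : G → ℂ) c) (Φ η : IrrCharacter H)
      fun g => (C.z_central g).symm.eq
  have h0 := Char.IsIrr.apply_one_ne_zero η.2
  have hξ := Char.IsIrr.apply_one_ne_zero ξ₀.2
  rw [h1, C.Φ_z η, C.Φ_regular η hw, C.Φ_regular η (w := 1) (by simp)]
  field_simp

/-- The alternating sum has the parity of the middle multiplicity. -/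
theorem Ctx.cc_parity (χ : IrrCharacter G) : 2 ∣ C.cc χ - C.coef q χ := by
  refine (ZMod.intCast_zmod_eq_zero_iff_dvd _ 2).1 ?_
  have hq := C.dih.two_le
  have hm1 : (-1 : ZMod 2) = 1 := CharTwo.neg_eq 1
  rw [Ctx.cc]
  push_cast
  simp only [hm1, one_pow, one_mul]
  rw [← Finset.add_sum_erase _ _ (Finset.mem_range.2 (by omega : q < 2 * q)), add_sub_cancel_left]
  refine Finset.sum_involution (fun j _ => if j = 0 then 0 else 2 * q - j) (fun j hj => ?_)
    (fun j hj hne => ?_) (fun j hj => ?_) (fun j hj => ?_)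
  · simp only [Finset.mem_erase, Finset.mem_range] at hj
    split_ifs with h0
    · rw [h0, C.coef_zero]; simp
    · rw [C.coef_symm hj.2.le]
      exact CharTwo.add_self_eq_zero _
  · simp only [Finset.mem_erase, Finset.mem_range] at hj
    split_ifs with h0
    · rw [h0, C.coef_zero] at hne
      simp at hne
    · omega
  · simp only [Finset.mem_erase, Finset.mem_range] at hj ⊢
    split_ifs with h0 <;> omega
  · simp only [Finset.mem_erase, Finset.mem_range] at hj
    by_cases h0 : j = 0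
    · simp [h0]
    · rw [if_neg h0, if_neg (by omega)]
      omega

/-- The alternating sums and the heights. -/
theorem Ctx.height_shape :
    (∀ χ ∈ B, C.cc χ ≠ 0) ∧ (∀ χ ∈ B, blockHeight 2 B (χ : G → ℂ) = 0 → Odd (C.cc χ)) ∧
      ∀ χ ∈ B, ∀ ψ ∈ B, (2 : ℤ) ^ blockHeight 2 B (χ : G → ℂ) ∣ C.cc ψ * C.cc χ := by
  obtain ⟨ω, hω, hξ⟩ := C.sign
  have hω0 : ω ≠ 0 := by omega
  have hω2 : ω * ω = 1 := by rcases hω with rfl | rfl <;> norm_num
  obtain ⟨h1, h2, h3⟩ := subsection_shape C.loc.modular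
    ⟨1, by rw [pow_one, Subgroup.orderOf_coe, C.dih.z_ord]⟩ C.cent C.ind C.defect C.blockRank_eq
    (fun χ => C.cc χ * ω) (ξ₀ : H → ℂ) (fun χ _ w hw => by
      rw [C.blockPart_translate χ hw, hξ, mul_div_cancel_right₀ _ (Char.IsIrr.apply_one_ne_zero ξ₀.2)]
      push_cast
      rfl) (by
      rw [C.pow, ← C.sum_cc_sq]
      exact Finset.sum_congr rfl fun χ _ => by
        rw [mul_pow, pow_two ω, hω2, mul_one])
  refine ⟨fun χ hχ h => h1 χ hχ (by rw [h, zero_mul]), fun χ hχ h => (Int.odd_mul.1 (h2 χ hχ h)).1,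
    fun χ hχ ψ hψ => ?_⟩
  have h := h3 χ hχ ψ hψ
  rwa [show C.cc ψ * ω * (C.cc χ * ω) = C.cc ψ * C.cc χ * (ω * ω) by ring, hω2, mul_one] at h

end CfsgLib.Blocks.DihedralDefect
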