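import Mathlib.Algebra.BigOperators.Ring.Finset
import Mathlib.Order.Interval.Finset.Nat
import Mathlib.Data.Finset.Card
import Mathlib.Algebra.Order.BigOperators.Group.Finset
import Mathlib.Algebra.BigOperators.Group.Finset.Piecewise
import Mathlib.Data.Complex.Basic
import Mathlib.Tactic.LinearCombination
import Mathlib.Tactic.Linarith
import Mathlib.Tactic.IntervalCases

/-!
# The combinatorics of a block with dihedral defect group
-/

set_option autoImplicit false

namespace CfsgLib.Blocks.DihedralDefect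

open Finset
open scoped Classical

set_option linter.unusedSimpArgs false

variable {ι : Type*}

/-- The numerical data of the induced generalized characters of a block. -/
structure Table (S : Finset ι) (x : ℕ → ι → ℤ) (q : ℕ) (d c : ι → ℤ) : Prop where
  two_le : 2 ≤ q
  pow_two' : ∃ e, q = 2 ^ e
  gram : ∀ i ∈ Finset.Icc 1 q, ∀ j ∈ Finset.Icc 1 q, ∑ t ∈ S, x i t * x j t =
    2 + (if i = j then 1 else 0) + (if i = q ∧ j = q then 1 else 0)
  deg : ∀ j ∈ Finset.Icc 1 q, ∑ t ∈ S, x j t * d t = 0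
  pos : ∀ t ∈ S, 0 < d t
  parity : ∀ t, 2 ∣ c t - x q t
  sq : ∑ t ∈ S, c t ^ 2 = 4 * (q : ℤ)
  ne : ∀ t ∈ S, c t ≠ 0
  odd : ∃ t ∈ S, Odd (c t)
  covered : ∀ t ∈ S, ∃ j ∈ Finset.Icc 1 q, x j t ≠ 0

theorem inter_eq_of_card_two {P Q : Finset ι} (hP : P.card = 2) (hQ : Q.card = 2)
    (h : (P ∩ Q).card = 2) : P = Q :=
  (eq_of_subset_of_card_le inter_subset_left (by omega)).symm.trans
    (eq_of_subset_of_card_le inter_subset_right (by omega))

theorem three_pairs {A P₁ P₂ P₃ : Finset ι} (hA : A.card = 4) (h₁ : P₁ ⊆ A) (h₂ : P₂ ⊆ A)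
    (h₃ : P₃ ⊆ A) (c₁ : P₁.card = 2) (c₂ : P₂.card = 2) (c₃ : P₃.card = 2)
    (h12 : (P₁ ∩ P₂).card = 1) (h13 : (P₁ ∩ P₃).card = 1) (h23 : (P₂ ∩ P₃).card = 1) :
    ∃ a b d f, a ≠ b ∧ a ≠ d ∧ a ≠ f ∧ b ≠ d ∧ b ≠ f ∧ d ≠ f ∧
      A = ({a, b, d, f} : Finset ι) ∧ P₁ = {a, b} ∧ P₂ = {a, d} ∧ (P₃ = {b, d} ∨ P₃ = {a, f}) := by
  obtain ⟨a, ha⟩ := card_eq_one.1 h12
  have ha1 : a ∈ P₁ := (mem_inter.1 (ha.ge (mem_singleton_self a))).1
  have ha2 : a ∈ P₂ := (mem_inter.1 (ha.ge (mem_singleton_self a))).2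
  obtain ⟨b, hb⟩ := card_eq_one.1 (show (P₁.erase a).card = 1 by rw [card_erase_of_mem ha1]; omega)
  obtain ⟨d, hd⟩ := card_eq_one.1 (show (P₂.erase a).card = 1 by rw [card_erase_of_mem ha2]; omega)
  have hP1 : P₁ = {a, b} := by rw [← insert_erase ha1, hb]
  have hP2 : P₂ = {a, d} := by rw [← insert_erase ha2, hd]
  have hab : a ≠ b := fun e => by rw [hP1, e] at c₁; simp at c₁
  have had : a ≠ d := fun e => by rw [hP2, e] at c₂; simp at c₂
  have hbd : b ≠ d := fun e => by rw [hP1, hP2, e, inter_self, card_pair had] at h12; omega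
  have habd : ({a, b, d} : Finset ι) ⊆ A := by
    intro t ht
    simp only [mem_insert, mem_singleton] at ht
    rcases ht with rfl | rfl | rfl
    exacts [h₁ ha1, h₁ (by simp [hP1]), h₂ (by simp [hP2])]
  have h3c : ({a, b, d} : Finset ι).card = 3 := by
    rw [card_insert_of_notMem (by simp [hab, had]), card_pair hbd]
  obtain ⟨f, hf⟩ := card_eq_one.1 (show (A \ {a, b, d}).card = 1 by
    rw [card_sdiff_of_subset habd]; omega)
  have hfm := mem_sdiff.1 (hf.ge (mem_singleton_self f))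
  simp only [mem_insert, mem_singleton, not_or] at hfm
  have hAeq : A = ({a, b, d, f} : Finset ι) := by
    ext t
    constructor
    · intro ht
      by_cases h : t ∈ ({a, b, d} : Finset ι)
      · simp only [mem_insert, mem_singleton] at h ⊢
        tauto
      · have h5 := hf.le (mem_sdiff.2 ⟨ht, h⟩)
        simp only [mem_singleton] at h5
        simp [h5]
    · intro ht
      simp only [mem_insert, mem_singleton] at ht
      rcases ht with rfl | rfl | rfl | rfl
      exacts [habd (by simp), habd (by simp), habd (by simp), hfm.1]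
  refine ⟨a, b, d, f, hab, had, Ne.symm hfm.2.1, hbd, Ne.symm hfm.2.2.1, Ne.symm hfm.2.2.2, hAeq,
    hP1, hP2, ?_⟩
  obtain ⟨u, v, huv, hP3⟩ := card_eq_two.1 c₃
  subst hP1 hP2 hP3
  have hu : u ∈ ({a, b, d, f} : Finset ι) := hAeq ▸ h₃ (by simp)
  have hv : v ∈ ({a, b, d, f} : Finset ι) := hAeq ▸ h₃ (by simp)
  simp only [mem_insert, mem_singleton] at hu hv
  have hfa := hfm.2.1
  have hfb := hfm.2.2.1
  have hfd := hfm.2.2.2
  have hba := Ne.symm hab
  have hda := Ne.symm had
  have hdb := Ne.symm hbd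
  have haf := Ne.symm hfa
  have hbf := Ne.symm hfb
  have hdf := Ne.symm hfd
  rcases hu with rfl | rfl | rfl | rfl <;> rcases hv with rfl | rfl | rfl | rfl <;>
    first
    | exact absurd rfl huv
    | exact Or.inl rfl
    | exact Or.inl (pair_comm _ _)
    | exact Or.inr rfl
    | exact Or.inr (pair_comm _ _)
    | (exfalso; simp_all [inter_comm, inter_insert_of_mem, inter_insert_of_notMem])

variable {S : Finset ι} {x : ℕ → ι → ℤ} {q : ℕ} {d c : ι → ℤ} (T : Table S x q d c)
include T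

theorem Table.q_mem : q ∈ Icc 1 q := mem_Icc.2 ⟨by have := T.two_le; omega, le_rfl⟩

theorem Table.sum_sq_q : ∑ t ∈ S, x q t ^ 2 = 4 := by
  have h := T.gram q T.q_mem q T.q_mem
  simp only [if_pos, and_self] at h
  exact (sum_congr rfl fun t _ => pow_two (x q t)).trans h

theorem Table.abs_q {t : ι} (ht : t ∈ S) : x q t = 0 ∨ x q t = 1 ∨ x q t = -1 := by
  obtain ⟨o, ho, hodd⟩ := T.odd
  have hx : Odd (x q o) := by
    obtain ⟨k, hk⟩ := T.parity o
    obtain ⟨m, hm⟩ := hodd
    exact ⟨m - k, by omega⟩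
  have h1 : 1 ≤ x q o ^ 2 := by
    obtain ⟨m, hm⟩ := hx
    have : x q o ≠ 0 := by omega
    have := mul_self_pos.2 this
    nlinarith
  by_contra hcon
  simp only [not_or] at hcon
  have h2 : 4 ≤ x q t ^ 2 := by
    rcases le_or_gt (x q t) (-2) with h | h
    · nlinarith
    · have : 2 ≤ x q t := by omega
      nlinarith
  by_cases hto : t = o
  · subst hto
    obtain ⟨m, hm⟩ := hx
    have h3 : x q t ^ 2 ≤ 4 := T.sum_sq_q ▸ single_le_sum (fun s _ => sq_nonneg (x q s)) ht
    have h4 : x q t ≤ 2 := by nlinarith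
    have h5 : -2 ≤ x q t := by nlinarith
    omega
  · have h3 : x q t ^ 2 + x q o ^ 2 ≤ 4 := by
      rw [← T.sum_sq_q, ← sum_pair (f := fun s => x q s ^ 2) hto]
      exact sum_le_sum_of_subset_of_nonneg (by
        intro s hs
        simp only [mem_insert, mem_singleton] at hs
        rcases hs with rfl | rfl <;> assumption) fun s _ _ => sq_nonneg _
    linarith

omit T in
/-- The support of the long vector. -/
noncomputable def longSupp (S : Finset ι) (x : ℕ → ι → ℤ) (q : ℕ) : Finset ι :=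
  S.filter fun t => x q t ≠ 0

theorem Table.card_longSupp : (longSupp S x q).card = 4 := by
  have h : ∑ t ∈ S, x q t ^ 2 = ((longSupp S x q).card : ℤ) := by
    rw [longSupp, card_filter, Nat.cast_sum]
    refine sum_congr rfl fun t ht => ?_
    rcases T.abs_q ht with e | e | e <;> simp [e]
  rw [T.sum_sq_q] at h
  exact_mod_cast h.symm

theorem Table.odd_iff {t : ι} (ht : t ∈ S) : Odd (c t) ↔ t ∈ longSupp S x q := by
  rw [longSupp, mem_filter]
  obtain ⟨k, hk⟩ := T.parity t
  rw [Int.odd_iff]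
  rcases T.abs_q ht with e | e | e <;> simp only [ht, true_and] <;> omega

theorem Table.sq_ge {t : ι} (ht : t ∈ S) :
    (if t ∈ longSupp S x q then 1 else 4) ≤ c t ^ 2 := by
  have h0 := T.ne t ht
  split_ifs with h
  · have := mul_self_pos.2 h0
    nlinarith
  · rw [← T.odd_iff ht, Int.not_odd_iff_even] at h
    obtain ⟨k, hk⟩ := h
    have : k ≠ 0 := by omega
    have : 1 ≤ k ^ 2 := by
      have := mul_self_pos.2 this
      nlinarith
    rw [hk]
    nlinarith

theorem Table.sum_ge : ∑ t ∈ S, (if t ∈ longSupp S x q then (1 : ℤ) else 4) =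
    4 * (S.card : ℤ) - 12 := by
  have h : ∑ t ∈ S, (if t ∈ longSupp S x q then (1 : ℤ) else 4) =
      ∑ t ∈ S, ((4 : ℤ) - if t ∈ longSupp S x q then 3 else 0) :=
    sum_congr rfl fun t _ => by split_ifs <;> norm_num
  rw [h, sum_sub_distrib, sum_const, nsmul_eq_mul, sum_ite_mem,
    inter_eq_right.2 (show longSupp S x q ⊆ S from filter_subset _ _), sum_const, T.card_longSupp]
  simp
  ring

theorem Table.card_le : (S.card : ℤ) ≤ q + 3 := by
  have h := sum_le_sum fun t (ht : t ∈ S) => T.sq_ge ht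
  rw [T.sum_ge, T.sq] at h
  linarith

/-- A short vector. -/
theorem Table.short {j : ℕ} (h1 : 1 ≤ j) (hj : j < q) :
    ∃ (P : Finset ι) (e : ι) (s : ℤ), P ⊆ longSupp S x q ∧ P.card = 2 ∧ e ∈ S ∧
      e ∉ longSupp S x q ∧ (s = 1 ∨ s = -1) ∧
      ∀ t ∈ S, x j t = (if t ∈ P then x q t else 0) + (if t = e then s else 0) := by
  have hjm : j ∈ Icc 1 q := mem_Icc.2 ⟨h1, hj.le⟩
  have hn := T.gram j hjm j hjm
  have hu := T.gram j hjm q T.q_mem
  simp only [if_true, hj.ne, false_and, if_false] at hn hu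
  have hsmall : ∀ t ∈ S, x j t = 0 ∨ x j t = 1 ∨ x j t = -1 := by
    intro t ht
    have h3 : x j t * x j t ≤ 3 := by
      calc x j t * x j t ≤ ∑ s ∈ S, x j s * x j s :=
            single_le_sum (fun s _ => mul_self_nonneg (x j s)) ht
        _ ≤ 3 := by omega
    have h4 : x j t ≤ 1 := by nlinarith
    have h5 : -1 ≤ x j t := by nlinarith
    omega
  set T0 := S.filter fun t => x j t ≠ 0 with hT0
  have hT3 : T0.card = 3 := by
    have h : ∑ t ∈ S, x j t * x j t = (T0.card : ℤ) := by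
      rw [hT0, card_filter, Nat.cast_sum]
      refine sum_congr rfl fun t ht => ?_
      rcases hsmall t ht with e | e | e <;> simp [e]
    have : (T0.card : ℤ) = 3 := by rw [← h]; omega
    exact_mod_cast this
  set P := T0.filter fun t => x q t ≠ 0 with hP
  have hsum : ∑ t ∈ P, x j t * x q t = 2 := by
    rw [hP, hT0, filter_filter,
      sum_filter_of_ne fun t _ hne => ⟨left_ne_zero_of_mul hne, right_ne_zero_of_mul hne⟩]
    omega
  have hPS : ∀ t ∈ P, t ∈ S := fun t ht => (mem_filter.1 (mem_filter.1 ht).1).1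
  have hpm : ∀ t ∈ P, x j t * x q t = 1 ∨ x j t * x q t = -1 := by
    intro t ht
    have hne1 := (mem_filter.1 (mem_filter.1 ht).1).2
    have hne2 := (mem_filter.1 ht).2
    rcases hsmall t (hPS t ht) with a | a | a <;> rcases T.abs_q (hPS t ht) with b | b | b <;>
      simp_all
  have hPc : P.card = 2 := by
    have hle : (2 : ℤ) ≤ (P.card : ℤ) := by
      rw [← hsum, ← mul_one (P.card : ℤ), ← nsmul_eq_mul, ← sum_const]
      exact sum_le_sum fun t ht => by rcases hpm t ht with e | e <;> omega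
    have hge : P.card ≤ 3 := hT3 ▸ card_filter_le _ _
    have hpar : (2 : ℤ) ∣ (P.card : ℤ) - ∑ t ∈ P, x j t * x q t := by
      rw [← mul_one (P.card : ℤ), ← nsmul_eq_mul, ← sum_const, ← sum_sub_distrib]
      exact dvd_sum fun t ht => by rcases hpm t ht with e | e <;> rw [e] <;> norm_num
    rw [hsum] at hpar
    omega
  have hagree : ∀ t ∈ P, x j t = x q t := by
    intro t ht
    have h0 : ∑ s ∈ P, (1 - x j s * x q s) = 0 := by
      rw [sum_sub_distrib, sum_const, hsum, hPc]
      norm_num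
    have h2 := (sum_eq_zero_iff_of_nonneg fun s hs => by
      rcases hpm s hs with e | e <;> omega).1 h0 t ht
    rcases hsmall t (hPS t ht) with a | a | a <;> rcases T.abs_q (hPS t ht) with b | b | b <;>
      rw [a, b] at h2 ⊢ <;> norm_num at h2
  obtain ⟨e, he⟩ := card_eq_one.1 (show (T0 \ P).card = 1 by
    rw [card_sdiff_of_subset (show P ⊆ T0 from filter_subset _ _)]; omega)
  obtain ⟨heT, heP⟩ := mem_sdiff.1 (he.ge (mem_singleton_self e))
  have heS := (mem_filter.1 heT).1
  have heA : e ∉ longSupp S x q := fun h => heP (mem_filter.2 ⟨heT, (mem_filter.1 h).2⟩)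
  refine ⟨P, e, x j e, fun t ht => mem_filter.2 ⟨hPS t ht, (mem_filter.1 ht).2⟩, hPc, heS, heA, ?_,
    fun t ht => ?_⟩
  · rcases hsmall e heS with a | a | a
    · exact absurd a (mem_filter.1 heT).2
    · exact Or.inl a
    · exact Or.inr a
  · by_cases htP : t ∈ P
    · rw [if_pos htP, if_neg (fun h => heP (by rw [← h]; exact htP)), hagree t htP, add_zero]
    · rw [if_neg htP, zero_add]
      split_ifs with h
      · rw [h]
      · by_contra h0
        have h5 := he.le (mem_sdiff.2 ⟨mem_filter.2 ⟨ht, h0⟩, htP⟩)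
        exact h (mem_singleton.1 h5)

/-- The regular configuration, or the exceptional one with `q = 4`. -/
theorem Table.dichotomy :
    (S.card = q + 3 ∧ (S.filter fun t => Odd (c t)).card = 4 ∧ ∀ t ∈ S, (c t).natAbs ≤ 2) ∨
      (q = 4 ∧ ∃ N, (∃ t ∈ S, Odd (c t) ∧ d t = N) ∧ ∀ r : ℂ, r * r = 2 →
        ∃ g₁ g₂ g₃ g₄ : ℂ,
          (2 * g₁ + 4 * g₂ + 2 * g₃ = 32 ∨ 2 * g₁ + 4 * g₂ + 2 * g₃ = -32) ∧
          ∀ t ∈ S, 6 * ((x 4 t : ℂ) + r * ((x 1 t : ℂ) - (x 3 t : ℂ))) ^ 2 * (N : ℂ) ^ 2 =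
            (d t : ℂ) * (3 * (d t : ℂ) + (N : ℂ) *
              (g₁ * (x 1 t : ℂ) + g₂ * (x 2 t : ℂ) + g₃ * (x 3 t : ℂ) + g₄ * (x 4 t : ℂ)))) := by
  set A := longSupp S x q with hA
  have : Nonempty ι := let ⟨o, _⟩ := T.odd; ⟨o⟩
  choose! P e s hPA hPc heS heA hs hval using fun j (h : 1 ≤ j ∧ j < q) => T.short h.1 h.2
  have hodd : (S.filter fun t => Odd (c t)) = A := by
    ext t
    rw [mem_filter]
    exact ⟨fun h => (T.odd_iff h.1).1 h.2, fun h =>
      ⟨(mem_filter.1 h).1, (T.odd_iff (mem_filter.1 h).1).2 h⟩⟩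
  have hAu : ∀ t ∈ A, x q t * x q t = 1 := fun t ht => by
    rcases T.abs_q (mem_filter.1 ht).1 with a | a | a
    · exact absurd a (mem_filter.1 ht).2
    · rw [a]; norm_num
    · rw [a]; norm_num
  have hpair : ∀ i j, (1 ≤ i ∧ i < q) → (1 ≤ j ∧ j < q) → i ≠ j →
      ((P i ∩ P j).card : ℤ) + (if e i = e j then s i * s j else 0) = 2 := by
    intro i j hi hj hne
    have h := T.gram i (mem_Icc.2 ⟨hi.1, hi.2.le⟩) j (mem_Icc.2 ⟨hj.1, hj.2.le⟩)
    rw [if_neg hne, if_neg fun h : i = q ∧ j = q => absurd h.1 hi.2.ne, add_zero, add_zero,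
      sum_congr rfl (g := fun t => (if t ∈ P i ∩ P j then (1 : ℤ) else 0) +
        (if t = e i then (if e i = e j then s i * s j else 0) else 0)) fun t ht => ?_,
      sum_add_distrib, sum_ite_mem, sum_ite_eq', if_pos (heS i hi), sum_const,
      inter_eq_right.2 (inter_subset_left.trans ((hPA i hi).trans (filter_subset _ _)))] at h
    · simpa using h
    rw [hval i hi t ht, hval j hj t ht]
    by_cases hti : t ∈ P i <;> by_cases htj : t ∈ P j
    · have h1 : t ≠ e i := fun h => heA i hi (h ▸ hPA i hi hti)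
      have h2 : t ≠ e j := fun h => heA j hj (h ▸ hPA j hj htj)
      simp [hti, htj, h1, h2, hAu t (hPA i hi hti)]
    · have h1 : t ≠ e i := fun h => heA i hi (h ▸ hPA i hi hti)
      have h2 : t ≠ e j := fun h => heA j hj (h ▸ hPA i hi hti)
      simp [hti, htj, h1, h2]
    · have h1 : t ≠ e i := fun h => heA i hi (h ▸ hPA j hj htj)
      have h2 : t ≠ e j := fun h => heA j hj (h ▸ hPA j hj htj)
      simp [hti, htj, h1, h2]
    · simp only [mem_inter, hti, htj, and_self, if_false, zero_add]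
      by_cases h1 : t = e i <;> by_cases h2 : e i = e j
      · simp [h1, h2]
      · simp [h1, h2]
      · have h3 : t ≠ e j := h2 ▸ h1
        simp [h1, h3]
      · simp [h1]
  by_cases hinj : Set.InjOn e (Ico 1 q : Finset ℕ)
  · left
    have himg : ((Ico 1 q).image e).card = q - 1 := by
      rw [card_image_of_injOn hinj, Nat.card_Ico]
    have hdis : Disjoint A ((Ico 1 q).image e) := disjoint_left.2 fun t ht h => by
      obtain ⟨j, hj, rfl⟩ := mem_image.1 h
      exact heA j (mem_Ico.1 hj) ht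
    have hsub : A ∪ (Ico 1 q).image e ⊆ S := union_subset (filter_subset _ _) fun t h => by
      obtain ⟨j, hj, rfl⟩ := mem_image.1 h
      exact heS j (mem_Ico.1 hj)
    have h1 := card_le_card hsub
    rw [card_union_of_disjoint hdis, himg, T.card_longSupp] at h1
    have h2 : S.card ≤ q + 3 := by exact_mod_cast T.card_le
    have hk : S.card = q + 3 := by have := T.two_le; omega
    refine ⟨hk, by rw [hodd, T.card_longSupp], fun t ht => ?_⟩
    have heq := (sum_eq_sum_iff_of_le fun t (ht : t ∈ S) => T.sq_ge ht).1 (by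
      rw [T.sum_ge, T.sq, hk]; push_cast; ring) t ht
    have h4 : c t ^ 2 ≤ 4 := by rw [← heq]; split_ifs <;> norm_num
    have h5 : c t ≤ 2 := by nlinarith
    have h6 : -2 ≤ c t := by nlinarith
    omega
  right
  obtain ⟨i, hi, j, hj, heij, hne⟩ : ∃ i, (1 ≤ i ∧ i < q) ∧ ∃ j, (1 ≤ j ∧ j < q) ∧ e i = e j ∧
      i ≠ j := by
    simp only [Set.InjOn, coe_Ico, Set.mem_Ico, not_forall] at hinj
    obtain ⟨i, hi, j, hj, h, hne⟩ := hinj
    exact ⟨i, hi, j, hj, h, hne⟩
  have hmeet : ∀ a b, (1 ≤ a ∧ a < q) → (1 ≤ b ∧ b < q) → a ≠ b → e a = e b →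
      (P a ∩ P b).card = 1 ∧ s a = s b := by
    intro a b ha hb hab he'
    have h := hpair a b ha hb hab
    rw [if_pos he'] at h
    have hle : (P a ∩ P b).card ≤ 2 := hPc a ha ▸ card_le_card inter_subset_left
    rcases hs a ha with u | u <;> rcases hs b hb with v | v <;> rw [u, v] at h <;>
      first | exact ⟨by omega, u.trans v.symm⟩ | (exfalso; omega)
  obtain ⟨hij1, hsij⟩ := hmeet i j hi hj hne heij
  have hall : ∀ k, (1 ≤ k ∧ k < q) → e k = e i := by
    intro k hk
    by_contra hki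
    have heq : ∀ m, (1 ≤ m ∧ m < q) → e m = e i → P k = P m := fun m hm hm' => by
      have h := hpair k m hk hm fun h => hki (h ▸ hm')
      rw [if_neg fun h => hki (h.trans hm'), add_zero] at h
      exact inter_eq_of_card_two (hPc k hk) (hPc m hm) (by exact_mod_cast h)
    rw [← heq i hi rfl, ← heq j hj heij.symm, inter_self, hPc k hk] at hij1
    omega
  have hall1 : ∀ a b, (1 ≤ a ∧ a < q) → (1 ≤ b ∧ b < q) → a ≠ b →
      (P a ∩ P b).card = 1 ∧ s a = s b := fun a b ha hb hab =>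
    hmeet a b ha hb hab ((hall a ha).trans (hall b hb).symm)
  obtain ⟨n, hn⟩ := T.pow_two'
  have hq4 : 4 ≤ q := by
    have h2 := T.two_le
    rcases n with _ | _ | n
    · simp at hn; omega
    · simp at hn; omega
    · rw [hn, pow_succ, pow_succ]; have := Nat.two_pow_pos n; omega
  have h1q : 1 ≤ 1 ∧ 1 < q := ⟨le_rfl, by omega⟩
  have h2q : 1 ≤ 2 ∧ 2 < q := ⟨by omega, by omega⟩
  have h3q : 1 ≤ 3 ∧ 3 < q := ⟨by omega, by omega⟩
  obtain ⟨a, b, d', f, hab, had, haf, hbd, hbf, hdf, hAeq, hP1, hP2, hP3⟩ :=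
    three_pairs T.card_longSupp (hPA 1 h1q) (hPA 2 h2q) (hPA 3 h3q) (hPc 1 h1q) (hPc 2 h2q)
      (hPc 3 h3q) (hall1 1 2 h1q h2q (by omega)).1 (hall1 1 3 h1q h3q (by omega)).1
      (hall1 2 3 h2q h3q (by omega)).1
  -- there is no fourth short vector
  have hq : q = 4 := by
    by_contra hq4'
    have h4q : 1 ≤ 4 ∧ 4 < q := ⟨by omega, by omega⟩
    obtain ⟨a', b', d'', f', hab', had', haf', hbd', hbf', hdf', hAeq', hP1', hP2', hP4⟩ :=
      three_pairs T.card_longSupp (hPA 1 h1q) (hPA 2 h2q) (hPA 4 h4q) (hPc 1 h1q) (hPc 2 h2q)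
        (hPc 4 h4q) (hall1 1 2 h1q h2q (by omega)).1 (hall1 1 4 h1q h4q (by omega)).1
        (hall1 2 4 h2q h4q (by omega)).1
    have h12 : P 1 ∩ P 2 = {a} := by
      rw [hP1, hP2]; ext t; simp only [mem_inter, mem_insert, mem_singleton]
      constructor
      · rintro ⟨h0, h⟩
        rcases h0 with e0 | e0
        · exact e0
        · rcases h with e1 | e1
          · exact e1
          · exact absurd (e0.symm.trans e1) hbd
      · rintro rfl; simp
    have h12' : P 1 ∩ P 2 = {a'} := by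
      rw [hP1', hP2']; ext t; simp only [mem_inter, mem_insert, mem_singleton]
      constructor
      · rintro ⟨h0, h⟩
        rcases h0 with e0 | e0
        · exact e0
        · rcases h with e1 | e1
          · exact e1
          · exact absurd (e0.symm.trans e1) hbd'
      · rintro rfl; simp
    obtain rfl : a = a' := singleton_injective (h12.symm.trans h12')
    obtain rfl : b = b' := by
      have : b ∈ ({a, b'} : Finset ι) := (hP1.symm.trans hP1') ▸ (by simp : b ∈ ({a, b} : Finset ι))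
      simpa [hab.symm] using this
    obtain rfl : d' = d'' := by
      have : d' ∈ ({a, d''} : Finset ι) :=
        (hP2.symm.trans hP2') ▸ (by simp : d' ∈ ({a, d'} : Finset ι))
      simpa [had.symm] using this
    obtain rfl : f = f' := by
      have : f ∈ ({a, b, d', f'} : Finset ι) :=
        (hAeq.symm.trans hAeq') ▸ (by simp : f ∈ ({a, b, d', f} : Finset ι))
      simpa [haf.symm, hbf.symm, hdf.symm] using this
    have h34 := (hall1 3 4 h3q h4q (by omega)).1
    rcases hP3 with u | u <;> rcases hP4 with v | v <;> rw [u, v] at h34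
    · rw [inter_self, card_pair hbd] at h34; omega
    · rw [show ({b, d'} ∩ {a, f} : Finset ι) = ∅ by
        ext t; simp only [mem_inter, mem_insert, mem_singleton, notMem_empty, iff_false]
        rintro ⟨rfl | rfl, h | h⟩
        exacts [hab h.symm, hbf h, had h.symm, hdf h], card_empty] at h34
      omega
    · rw [show ({a, f} ∩ {b, d'} : Finset ι) = ∅ by
        ext t; simp only [mem_inter, mem_insert, mem_singleton, notMem_empty, iff_false]
        rintro ⟨rfl | rfl, h | h⟩
        exacts [hab h, had h, hbf h.symm, hdf h.symm], card_empty] at h34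
      omega
    · rw [inter_self, card_pair haf] at h34; omega
  set g := e 1 with hg
  have hgA : g ∉ A := heA 1 h1q
  have hgS : g ∈ S := heS 1 h1q
  have hAS : A ⊆ S := filter_subset _ _
  have hmA : ∀ t ∈ ({a, b, d', f} : Finset ι), t ∈ A := fun t ht => by rw [hA, hAeq]; exact ht
  have hga : g ≠ a := fun h => hgA (h ▸ hmA a (by simp))
  have hgb : g ≠ b := fun h => hgA (h ▸ hmA b (by simp))
  have hgd : g ≠ d' := fun h => hgA (h ▸ hmA d' (by simp))
  have hgf : g ≠ f := fun h => hgA (h ▸ hmA f (by simp))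
  have hv : ∀ k, (1 ≤ k ∧ k < q) → ∀ t ∈ S,
      x k t = (if t ∈ P k then x q t else 0) + (if t = g then s 1 else 0) := by
    intro k hk t ht
    rw [hval k hk t ht, show e k = g from (hall k hk).trans (hall 1 h1q).symm]
    by_cases hk1 : k = 1
    · rw [hk1]
    · rw [(hall1 k 1 hk h1q hk1).2]
  -- the five characters
  have hS : S = insert g A := by
    refine (subset_antisymm (fun t ht => ?_) (insert_subset hgS hAS))
    obtain ⟨k, hk, hne0⟩ := T.covered t ht
    rw [mem_Icc] at hk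
    by_cases hkq : k = q
    · exact mem_insert_of_mem (mem_filter.2 ⟨ht, hkq ▸ hne0⟩)
    · rw [hv k ⟨hk.1, by omega⟩ t ht] at hne0
      by_cases htP : t ∈ P k
      · exact mem_insert_of_mem (hPA k ⟨hk.1, by omega⟩ htP)
      · rw [if_neg htP, zero_add] at hne0
        by_cases htg : t = g
        · exact mem_insert.2 (Or.inl htg)
        · rw [if_neg htg] at hne0; exact absurd rfl hne0
  have hsum : ∀ F : ι → ℤ, ∑ t ∈ S, F t = F g + (F a + (F b + (F d' + F f))) := by
    intro F
    rw [hS, sum_insert hgA, hA, hAeq, sum_insert (by simp [hab, had, haf]),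
      sum_insert (by simp [hbd, hbf]), sum_pair hdf]
  have hE : ∀ k, (1 ≤ k ∧ k < q) → ∑ t ∈ P k, x q t * d t + s 1 * d g = 0 := by
    intro k hk
    have h := T.deg k (mem_Icc.2 ⟨hk.1, hk.2.le⟩)
    rw [sum_congr rfl (g := fun t => (if t ∈ P k then x q t * d t else 0) +
        (if t = g then s 1 * d t else 0)) fun t ht => by
          rw [hv k hk t ht, add_mul, ite_mul, ite_mul, zero_mul],
      sum_add_distrib, sum_ite_mem, sum_ite_eq', if_pos hgS,
      inter_eq_right.2 ((hPA k hk).trans hAS)] at h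
    exact h
  have h1 := hE 1 h1q
  have h2 := hE 2 h2q
  have h3 := hE 3 h3q
  have h4 := T.deg q T.q_mem
  have hu0 : x q g = 0 := by
    by_contra hne0
    exact hgA (mem_filter.2 ⟨hgS, hne0⟩)
  rw [hsum, hu0, zero_mul, zero_add] at h4
  rw [hP1, sum_pair hab] at h1
  rw [hP2, sum_pair had] at h2
  have pa := T.pos a (hAS (hmA a (by simp)))
  have pb := T.pos b (hAS (hmA b (by simp)))
  have pd := T.pos d' (hAS (hmA d' (by simp)))
  have pf := T.pos f (hAS (hmA f (by simp)))
  have pg := T.pos g hgS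
  have ua := hAu a (hmA a (by simp))
  have ub := hAu b (hmA b (by simp))
  have ud := hAu d' (hmA d' (by simp))
  have uf := hAu f (hmA f (by simp))
  rw [mul_self_eq_one_iff] at ua ub ud uf
  have hval5 : ∀ t ∈ S, t = g ∨ t = a ∨ t = b ∨ t = d' ∨ t = f := by
    intro t ht
    rw [hS, hA, hAeq] at ht
    simpa using ht
  have hoddA : ∀ t ∈ A, Odd (c t) := fun t ht => (T.odd_iff (hAS ht)).2 ht
  subst hq
  refine ⟨rfl, ?_⟩
  rcases hP3 with hP3 | hP3
  · rw [hP3, sum_pair hbd] at h3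
    obtain ⟨e1, e2, e3, e4, f1, f2, f3, f4⟩ : x 4 a = -s 1 ∧ x 4 b = -s 1 ∧ x 4 d' = -s 1 ∧
        x 4 f = s 1 ∧ d b = d a ∧ d d' = d a ∧ d f = 3 * d a ∧ d g = 2 * d a := by
      rcases hs 1 h1q with v | v <;> rcases ua with u1 | u1 <;> rcases ub with u2 | u2 <;>
        rcases ud with u3 | u3 <;> rcases uf with u4 | u4 <;>
        simp only [v, u1, u2, u3, u4, one_mul, neg_mul, true_and] at h1 h2 h3 h4 ⊢ <;> omega
    refine ⟨d a, ⟨a, hAS (hmA a (by simp)), hoddA a (hmA a (by simp)), rfl⟩, fun r hr => ?_⟩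
    refine ⟨-(s 1 : ℂ) * (-2 + 12 * r), -(s 1 : ℂ) * 10, -(s 1 : ℂ) * (-2 - 12 * r),
      -(s 1 : ℂ) * 7, ?_, fun t ht => ?_⟩
    · rcases hs 1 h1q with v | v <;> rw [v]
      · right; push_cast; ring
      · left; push_cast; ring
    · rw [hv 1 h1q t ht, hv 2 h2q t ht, hv 3 h3q t ht, hP1, hP2, hP3]
      rcases hval5 t ht with rfl | rfl | rfl | rfl | rfl <;>
        simp only [mem_insert, mem_singleton, hab, had, haf, hbd, hbf, hdf, hga, hgb, hgd, hgf,
          hab.symm, had.symm, haf.symm, hbd.symm, hbf.symm, hdf.symm, hga.symm, hgb.symm,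
          hgd.symm, hgf.symm, hu0, e1, e2, e3, e4, f1, f2, f3, f4, if_true, if_false, or_true,
          true_or, or_false, add_zero, zero_add] <;>
        push_cast <;>
        rcases hs 1 h1q with v | v <;> rw [v] <;> push_cast <;> ring_nf <;>
        simp only [show r ^ 2 = 2 by rw [pow_two]; exact hr] <;> ring
  · rw [hP3, sum_pair haf] at h3
    obtain ⟨e1, e2, e3, e4, f1, f2, f3, f4⟩ : x 4 a = -s 1 ∧ x 4 b = s 1 ∧ x 4 d' = s 1 ∧
        x 4 f = s 1 ∧ d a = 3 * d b ∧ d d' = d b ∧ d f = d b ∧ d g = 2 * d b := by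
      rcases hs 1 h1q with v | v <;> rcases ua with u1 | u1 <;> rcases ub with u2 | u2 <;>
        rcases ud with u3 | u3 <;> rcases uf with u4 | u4 <;>
        simp only [v, u1, u2, u3, u4, one_mul, neg_mul, true_and] at h1 h2 h3 h4 ⊢ <;> omega
    refine ⟨d b, ⟨b, hAS (hmA b (by simp)), hoddA b (hmA b (by simp)), rfl⟩, fun r hr => ?_⟩
    refine ⟨(s 1 : ℂ) * (2 + 12 * r), (s 1 : ℂ) * (-10), (s 1 : ℂ) * (2 - 12 * r),
      (s 1 : ℂ) * 13, ?_, fun t ht => ?_⟩
    · rcases hs 1 h1q with v | v <;> rw [v]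
      · right; push_cast; ring
      · left; push_cast; ring
    · rw [hv 1 h1q t ht, hv 2 h2q t ht, hv 3 h3q t ht, hP1, hP2, hP3]
      rcases hval5 t ht with rfl | rfl | rfl | rfl | rfl <;>
        simp only [mem_insert, mem_singleton, hab, had, haf, hbd, hbf, hdf, hga, hgb, hgd, hgf,
          hab.symm, had.symm, haf.symm, hbd.symm, hbf.symm, hdf.symm, hga.symm, hgb.symm,
          hgd.symm, hgf.symm, hu0, e1, e2, e3, e4, f1, f2, f3, f4, if_true, if_false, or_true,
          true_or, or_false, add_zero, zero_add] <;>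
        push_cast <;>
        rcases hs 1 h1q with v | v <;> rw [v] <;> push_cast <;> ring_nf <;>
        simp only [show r ^ 2 = 2 by rw [pow_two]; exact hr] <;> ring

end CfsgLib.Blocks.DihedralDefect
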