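import Cfsg.Agent.Lib.Blocks.HeightZero
import Cfsg.Agent.Lib.Blocks.MajorSubsection
import Cfsg.Agent.Lib.Blocks.Orthogonality
import Cfsg.Agent.Lib.Char.DefectZeroIdem
import Cfsg.Agent.Lib.Char.Basic

/-!
# Convolutions of class functions and central characters
-/

set_option autoImplicit false

namespace CfsgLib.Blocks.DihedralDefect

open Cfsg CfsgLib.Blocks CfsgLib.Char
open scoped Classical ComplexConjugate

variable {K : Type*} [Group K] [Fintype K]

/-- The convolution of two functions. -/
noncomputable def conv (f f' : K → ℂ) (g : K) : ℂ := ∑ a, f a * f' (a⁻¹ * g)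

/-- The central character of a function regarded as an element of the group algebra. -/
noncomputable def ev (ψ : IrrCharacter K) (f : K → ℂ) : ℂ :=
  (∑ g, f g * (ψ : K → ℂ) g⁻¹) / (ψ : K → ℂ) 1

theorem isClassFunction_conv {f f' : K → ℂ} (hf : IsClassFunction K f)
    (hf' : IsClassFunction K f') : IsClassFunction K (conv f f') := fun g y => by
  refine (Fintype.sum_equiv (MulAut.conj y).toEquiv _ _ fun a => ?_).symm
  show f a * f' (a⁻¹ * g) = f (y * a * y⁻¹) * f' ((y * a * y⁻¹)⁻¹ * (y * g * y⁻¹))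
  rw [hf, show (y * a * y⁻¹)⁻¹ * (y * g * y⁻¹) = y * (a⁻¹ * g) * y⁻¹ by group, hf']

theorem ev_eq_classInner (ψ : IrrCharacter K) (f : K → ℂ) :
    ev ψ f = (Nat.card K : ℂ) * classInner f (ψ : K → ℂ) / (ψ : K → ℂ) 1 := by
  rw [ev, classInner, ← mul_assoc, mul_inv_cancel₀ (Nat.cast_ne_zero.2 Nat.card_pos.ne'), one_mul]
  simp only [Char.IsIrr.map_inv ψ.2]

/-- The central character is multiplicative. -/
theorem ev_conv (ψ : IrrCharacter K) (f : K → ℂ) {f' : K → ℂ} (hf' : IsClassFunction K f') :
    ev ψ (conv f f') = ev ψ f * ev ψ f' := by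
  obtain ⟨ψ, n, ρ, hρ, rfl⟩ := ψ
  have key : ∀ a, ∑ g, f a * f' (a⁻¹ * g) * ρ.character g⁻¹ =
      (f a * ρ.character a⁻¹) * ((∑ y, f' y * ρ.character y⁻¹) / ρ.character 1) := fun a => by
    have h := CfsgLib.DefectZeroIdem.sum_conv ρ (ψ := f') hf' a⁻¹
    rw [← ρ.char_one] at h
    rw [show ∑ y, f' y * ρ.character y⁻¹ = ∑ x, f' x⁻¹ * ρ.character x from
      Fintype.sum_equiv (Equiv.inv K) _ _ fun x => by simp]
    rw [show ∑ g, f a * f' (a⁻¹ * g) * ρ.character g⁻¹ =
        f a * ∑ x, f' x⁻¹ * ρ.character (a⁻¹ * x) by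
      rw [Finset.mul_sum]
      refine Fintype.sum_equiv ((Equiv.mulLeft a⁻¹).trans (Equiv.inv K)) _ _ fun g => ?_
      simp only [Equiv.trans_apply, Equiv.coe_mulLeft, Equiv.inv_apply, mul_inv_rev, inv_inv]
      rw [show a⁻¹ * (g⁻¹ * a) = a⁻¹ * g⁻¹ * a⁻¹⁻¹ by group, ρ.char_conj]
      ring, h]
    ring
  simp only [ev, conv, Finset.sum_mul]
  rw [Finset.sum_comm, Finset.sum_congr rfl fun a _ => key a, ← Finset.sum_mul]
  ring

/-- The square of a class function in the basis of the characters. -/
theorem conv_self_eq_sum [Fintype (IrrCharacter K)] {f : K → ℂ} (hf : IsClassFunction K f)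
    (g : K) : conv f f g = ∑ χ : IrrCharacter K,
      (Nat.card K : ℂ) * classInner f (χ : K → ℂ) ^ 2 / (χ : K → ℂ) 1 * (χ : K → ℂ) g := by
  rw [classFunction_apply_eq_sum (isClassFunction_conv hf hf) g]
  refine Finset.sum_congr rfl fun χ _ => ?_
  congr 1
  have h := ev_conv χ f hf
  rw [ev_eq_classInner, ev_eq_classInner] at h
  have h1 := Char.IsIrr.apply_one_ne_zero χ.2
  have h0 : (Nat.card K : ℂ) ≠ 0 := Nat.cast_ne_zero.2 Nat.card_pos.ne'
  field_simp at h ⊢
  linear_combination h

variable {M : Ideal AlgInt} [M.IsPrime]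

theorem memLocalIdeal_of_resHom {z : localRing M} (h : resHom M z = 0) :
    MemLocalIdeal M (z : ℂ) :=
  residue_eq_zero_iff.1 h

theorem resHom_eq_zero {z : ℂ} (h : MemLocalIdeal M z) :
    resHom M ⟨z, memLocalRing_of_memLocalIdeal h⟩ = 0 :=
  residue_eq_zero_iff.2 h

/-- The central character of a class function with values in the ideal lies in the ideal. -/
theorem ev_memLocalIdeal (ψ : IrrCharacter K) {f : K → ℂ} (hf : IsClassFunction K f)
    (hm : ∀ g, MemLocalIdeal M (f g)) : MemLocalIdeal M (ev ψ f) := by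
  set a : MonoidAlgebra (localRing M) K :=
    ofFun fun x => ⟨f x⁻¹, memLocalRing_of_memLocalIdeal (hm _)⟩ with ha
  have hc : IsCentralElt a := fun g t => by
    simp only [ha, coeff_ofFun]
    exact Subtype.ext (by simp only [mul_inv_rev, inv_inv, ← mul_assoc]; exact hf _ _)
  have h0 : red M a = 0 := MonoidAlgebra.ext (Finsupp.ext fun g => by
    rw [coeff_red, ha, coeff_ofFun]
    exact resHom_eq_zero (hm _))
  have h1 := omegaBar_red ψ hc
  rw [h0, omegaBar_zero] at h1
  have h2 := memLocalIdeal_of_resHom h1.symm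
  convert h2 using 1
  show ev ψ f = omega (ψ : K → ℂ) (inc M a)
  rw [omega_apply, ev]
  congr 1
  refine Fintype.sum_equiv (Equiv.inv K) _ _ fun g => ?_
  rw [coeff_inc, ha, coeff_ofFun]
  simp

/-- The central character of the regular part of an integral class function. -/
theorem exists_ev_regCut {p : ℕ} [Fact p.Prime] (ψ : IrrCharacter K) {θ : K → ℂ}
    (hθ : IsClassFunction K θ) (hi : ∀ g, IsIntegral ℤ (θ g))
    (hne : omegaBar ψ (red M (regElt (p := p) θ hi)) ≠ 0) :
    ∃ y : localRing M, (y : ℂ) = ev ψ (fun g => if p ∣ orderOf g then 0 else θ g) ∧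
      resHom M y ≠ 0 := by
  have hc := isCentralElt_regElt (p := p) (M := M) hθ hi
  rw [omegaBar_red ψ hc] at hne
  refine ⟨_, ?_, hne⟩
  show omega (ψ : K → ℂ) (inc M (regElt (p := p) θ hi)) = _
  rw [omega_apply, ev]
  congr 1
  refine Fintype.sum_equiv (Equiv.inv K) _ _ fun g => ?_
  rw [coeff_inc, coeff_regElt]
  simp

theorem memLocalIdeal_zero : MemLocalIdeal M (0 : ℂ) := by
  simpa using memLocalIdeal_of_resHom (M := M) (z := 0) (map_zero _)

theorem memLocalIdeal_sub {a b : ℂ} (ha : MemLocalIdeal M a) (hb : MemLocalIdeal M b) :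
    MemLocalIdeal M (a - b) :=
  memLocalIdeal_of_resHom
    (z := (⟨a, memLocalRing_of_memLocalIdeal ha⟩ : localRing M) -
      (⟨b, memLocalRing_of_memLocalIdeal hb⟩ : localRing M))
    (by rw [map_sub, resHom_eq_zero ha, resHom_eq_zero hb, sub_zero])

theorem memLocalIdeal_mul {a b : ℂ} (ha : MemLocalIdeal M a) (hb : b ∈ localRing M) :
    MemLocalIdeal M (a * b) :=
  memLocalIdeal_of_resHom (z := (⟨a, memLocalRing_of_memLocalIdeal ha⟩ : localRing M) *
    (⟨b, hb⟩ : localRing M))
    (by rw [map_mul, resHom_eq_zero ha, zero_mul])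

/-- A sum over elements, one section at a time modulo the fixed points of a 2-element. -/
theorem sum_sub_sum_commute {G : Type*} [Group G] [Fintype G] (hM : IsPModular 2 M) {u : G}
    (hu : ∃ k, orderOf u = 2 ^ k) {f : G → ℂ} (hf : ∀ a, f a ∈ localRing M)
    (hinv : ∀ a, f (u * a * u⁻¹) = f a) :
    MemLocalIdeal M (∑ a, f a - ∑ a ∈ Finset.univ.filter (fun a => Commute u a), f a) := by
  have : CharP (Res M) 2 := charP_residueField hM
  set F : G → Res M := fun a => resHom M ⟨f a, hf a⟩ with hF
  have hinvn : ∀ (n : ℕ) (a : G), f (u ^ n * a * (u ^ n)⁻¹) = f a := fun n => by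
    induction n with
    | zero => simp
    | succ n ih =>
      intro a
      rw [pow_succ', show u * u ^ n * a * (u * u ^ n)⁻¹ = u * (u ^ n * a * (u ^ n)⁻¹) * u⁻¹ by group,
        hinv, ih]
  obtain ⟨k, hk⟩ := hu
  have key : ∀ j, j ≤ k → ∑ a ∈ Finset.univ.filter (fun a => Commute (u ^ 2 ^ j) a), F a =
      ∑ a ∈ Finset.univ.filter (fun a => Commute u a), F a := by
    intro j hj
    induction j with
    | zero => rw [pow_zero, pow_one]
    | succ j ih =>
      rw [← ih (by omega)]
      set v := u ^ 2 ^ j with hv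
      have hv2 : u ^ 2 ^ (j + 1) = v * v := by rw [hv, pow_succ, pow_mul, pow_two]
      rw [hv2, ← Finset.sum_filter_add_sum_filter_not (Finset.univ.filter fun a => Commute (v * v) a)
        (fun a => Commute v a), Finset.filter_filter]
      have hzero : ∑ a ∈ (Finset.univ.filter fun a => Commute (v * v) a).filter
          (fun a => ¬ Commute v a), F a = 0 := by
        refine Finset.sum_involution (fun a _ => v * a * v⁻¹) (fun a ha => ?_) (fun a ha _ => ?_)
          (fun a ha => ?_) (fun a ha => ?_)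
        · have : F (v * a * v⁻¹) = F a := by simp only [hF]; congr 2; exact hinvn _ _
          rw [this]
          exact CharTwo.add_self_eq_zero _
        · exact fun e => (Finset.mem_filter.1 ha).2 (mul_inv_eq_iff_eq_mul.1 e)
        · simp only [Finset.mem_filter, Finset.mem_univ, true_and] at ha ⊢
          refine ⟨?_, fun h => ha.2 ?_⟩
          · have hcv : Commute (v * v) v := (Commute.refl v).mul_left (Commute.refl v)
            exact (hcv.mul_right ha.1).mul_right hcv.inv_right
          · have := ((Commute.refl v).inv_right.mul_right h).mul_right (Commute.refl v)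
            simpa [mul_assoc] using this
        · simp only [Finset.mem_filter] at ha
          have h := ha.1.2.eq
          calc v * (v * a * v⁻¹) * v⁻¹ = v * v * a * (v * v)⁻¹ := by group
            _ = a := by rw [h, mul_inv_cancel_right]
      rw [hzero, add_zero]
      refine Finset.sum_congr (Finset.filter_congr fun a _ => ?_) fun _ _ => rfl
      exact ⟨fun h => h.2, fun h => ⟨h.mul_left h, h⟩⟩
  have h := key k le_rfl
  rw [← hk, pow_orderOf_eq_one, Finset.filter_true_of_mem fun a _ => Commute.one_left a] at h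
  have e : (∑ a, f a - ∑ a ∈ Finset.univ.filter (fun a => Commute u a), f a) =
      ((∑ a, (⟨f a, hf a⟩ : localRing M) -
        ∑ a ∈ Finset.univ.filter (fun a => Commute u a), (⟨f a, hf a⟩ : localRing M) : localRing M) : ℂ) := by
    simp
  rw [e]
  refine memLocalIdeal_of_resHom ?_
  rw [map_sub, map_sum, map_sum, sub_eq_zero]
  exact h

/-- Only the block of a character is seen by its pairing on the regular elements. -/
theorem sum_regular_blockPart {p : ℕ} [Fintype (IrrCharacter K)] (hM : IsPModular p M)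
    {B : Set (IrrCharacter K)} (hB : IsPBlock M B) {f : K → ℂ} (hf : IsClassFunction K f)
    {ψ : IrrCharacter K} (hψ : ψ ∈ B) :
    ∑ x ∈ Finset.univ.filter (fun x : K => ¬ p ∣ orderOf x),
        blockPart B f x * (ψ : K → ℂ) x⁻¹ =
      ∑ x ∈ Finset.univ.filter (fun x : K => ¬ p ∣ orderOf x), f x * (ψ : K → ℂ) x⁻¹ := by
  have h1 : ∀ x, f x = blockPart B f x + ∑ χ ∈ Finset.univ.filter (fun χ : IrrCharacter K => χ ∉ B),
      classInner f (χ : K → ℂ) * (χ : K → ℂ) x := fun x => by
    rw [classFunction_apply_eq_sum hf x, blockPart_eq,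
      finsum_mem_eq_finite_toFinset_sum _ (Set.toFinite B),
      ← Finset.sum_filter_add_sum_filter_not Finset.univ (fun χ : IrrCharacter K => χ ∈ B)]
    congr 1
    exact Finset.sum_congr (by ext; simp) fun _ _ => rfl
  conv_rhs => rw [Finset.sum_congr rfl fun x _ => by rw [h1 x, add_mul], Finset.sum_add_distrib]
  rw [left_eq_add]
  simp only [Finset.sum_mul]
  rw [Finset.sum_comm]
  refine Finset.sum_eq_zero fun χ hχ => ?_
  simp only [mul_assoc, ← Finset.mul_sum]
  rw [sum_regular_eq_zero hM fun hs => (Finset.mem_filter.1 hχ).2 ?_, mul_zero]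
  exact (IsPBlock.eq_blockOf hB hψ).ge (SameBlock.symm' hs)

end CfsgLib.Blocks.DihedralDefect
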