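import Cfsg.Agent.Lib.Blocks.DihedralDefect.Convolution
import Cfsg.Agent.Lib.Blocks.RegCut
import Cfsg.Agent.Lib.Blocks.SubsectionHeight
import Cfsg.Agent.Lib.Blocks.Star.Nilpotent
import Cfsg.Agent.Lib.Char.AbelianInertia

/-!
# A nilpotent block with central cyclic defect group of order 8

The central characters of the block separate the cosets of the defect group, so they respect the
grading of class functions by the 2-parts.
-/

set_option autoImplicit false

namespace CfsgLib.Blocks.DihedralDefect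

open Cfsg CfsgLib.Blocks CfsgLib.Pairs CfsgLib.Star CfsgLib.Char
open scoped Classical ComplexConjugate

variable {K : Type*} [Group K] [Fintype K] {M : Ideal AlgInt} [M.IsPrime] [Fact (Nat.Prime 2)]

/-- The graded piece of the central character. -/
noncomputable def piece (ξ : IrrCharacter K) (σ : K) (f : K → ℂ) (i : ℕ) : ℂ :=
  ev ξ fun w => if 2 ∣ orderOf w then 0 else f (σ ^ i * w)

theorem piece_eq_zero (ξ : IrrCharacter K) (σ : K) {f : K → ℂ} (i : ℕ)
    (h : ∀ w, ¬ 2 ∣ orderOf w → f (σ ^ i * w) = 0) : piece ξ σ f i = 0 := by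
  rw [piece, ev, Finset.sum_eq_zero fun w _ => ?_, zero_div]
  split_ifs with hw
  · rw [zero_mul]
  · rw [h w hw, zero_mul]

/-- The grading is respected by squares. -/
theorem exists_piece_conv (hM : IsPModular 2 M) {b : Set (IrrCharacter K)}
    (hnil : IsNilpotentBlock 2 M b) {σ : K} (hσ : orderOf σ = 8) (hc : ∀ g : K, g * σ = σ * g)
    (hD : IsDefectGroup 2 M b (Subgroup.zpowers σ)) :
    ∃ ξ ∈ b, ∀ A : K → ℂ, IsClassFunction K A →
      (∀ i < 8, i ≠ 3 → i ≠ 5 → piece ξ σ A i = 0) →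
      piece ξ σ (conv A A) 2 = piece ξ σ A 5 ^ 2 := by
  have hb : IsPBlock M b := hnil.1
  obtain ⟨ξ, hξ, Φ, hξ0, hΦ⟩ := exists_param_of_nilpotent hM hnil hD
  have hcomm : ∀ a b : Subgroup.zpowers σ, a * b = b * a := fun a b => by
    obtain ⟨m, hm⟩ := Subgroup.mem_zpowers_iff.1 a.2
    obtain ⟨n, hn⟩ := Subgroup.mem_zpowers_iff.1 b.2
    exact Subtype.ext (by simp only [Subgroup.coe_mul, ← hm, ← hn, ← zpow_add, add_comm])
  have hreg : ∀ ψ ∈ b, ∀ w : K, ¬ 2 ∣ orderOf w → (ψ : K → ℂ) w = (ξ : K → ℂ) w := fun ψ hψ w hw => by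
    obtain ⟨η, hη⟩ := Φ.surjective ⟨ψ, hψ⟩
    have := hΦ η w hw
    rw [hη, CfsgLib.Clifford.apply_one_eq_one_of_commute hcomm η, one_mul] at this
    exact this
  have hdeg : ∀ ψ ∈ b, (ψ : K → ℂ) 1 = (ξ : K → ℂ) 1 := fun ψ hψ => hreg ψ hψ 1 (by simp)
  have hξ1 : (ξ : K → ℂ) 1 ≠ 0 := Char.IsIrr.apply_one_ne_zero ξ.2
  have hcen : ∀ i : ℕ, ∀ g : K, g * σ ^ i = σ ^ i * g := fun i g => (Commute.pow_right (hc g) i).eq
  have hvan : ∀ ψ ∈ b, ∀ g : K, (ψ : K → ℂ) g ≠ 0 →
      ∃ i < 8, ∃ w : K, ¬ 2 ∣ orderOf w ∧ g = σ ^ i * w := fun ψ hψ g hne => by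
    have hd : (charDegree (ψ : K → ℂ)).factorization 2 = minExp 2 b := by
      rw [show charDegree (ψ : K → ℂ) = charDegree (ξ : K → ℂ) by
        exact_mod_cast (show ((charDegree (ψ : K → ℂ) : ℂ)) = (charDegree (ξ : K → ℂ) : ℂ) by
          rw [← apply_one_eq_charDegree, ← apply_one_eq_charDegree, hdeg ψ hψ])]
      exact (blockHeight_eq_zero_iff_minExp hξ).1 hξ0
    have hidx : (Subgroup.zpowers σ).index.factorization 2 = minExp 2 b := by
      have h1 := card_eq_minExp_add hM hb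
      rw [← Subgroup.index_mul_card (Subgroup.zpowers σ), IsDefectGroup.card_eq hM hb hD,
        Nat.factorization_mul Subgroup.index_ne_zero_of_finite (pow_ne_zero _ two_ne_zero),
        Finsupp.add_apply, Nat.prime_two.factorization_pow, Finsupp.single_eq_same] at h1
      omega
    have hP : IsPGroup 2 (Subgroup.zpowers σ) :=
      IsPGroup.of_card (n := 3) (by rw [Nat.card_zpowers, hσ]; norm_num)
    have hZ : Subgroup.zpowers σ ≤ Subgroup.center K :=
      Subgroup.zpowers_le.2 (Subgroup.mem_center_iff.2 hc)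
    obtain ⟨u, hu⟩ := exists_pPart Nat.prime_two g
    have huσ : u ∈ Subgroup.zpowers σ := by
      by_contra hn
      exact hne ((sum_sq_regular_of_central_defect hP hZ (hd.trans hidx.symm)).2 g u hu hn)
    obtain ⟨w, hw, -, -, hwo⟩ := hu
    obtain ⟨k, hk⟩ := (mem_powers_iff_mem_zpowers.2 huσ : u ∈ Submonoid.powers σ)
    exact ⟨k % 8, Nat.mod_lt _ (by norm_num), w, hwo, by
      rw [← hw, ← hk, ← hσ, pow_mod_orderOf]⟩
  set μ : IrrCharacter K → ℂ := fun ψ => (ψ : K → ℂ) σ / (ψ : K → ℂ) 1 with hμ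
  have hμpow : ∀ ψ : IrrCharacter K, ∀ (i : ℕ) (g : K),
      (ψ : K → ℂ) (σ ^ i * g) = μ ψ ^ i * (ψ : K → ℂ) g := fun ψ i => by
    induction i with
    | zero => simp
    | succ i ih =>
      intro g
      rw [pow_succ', mul_assoc, pow_succ', mul_assoc, ← ih, hμ, div_mul_eq_mul_div,
        eq_div_iff (Char.IsIrr.apply_one_ne_zero ψ.2)]
      exact apply_central_mul ψ hc _
  have hμ8 : ∀ ψ : IrrCharacter K, μ ψ ^ 8 = 1 := fun ψ => by
    have := hμpow ψ 8 1
    rw [← hσ, pow_orderOf_eq_one, one_mul, hσ] at this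
    exact (mul_eq_right₀ (Char.IsIrr.apply_one_ne_zero ψ.2)).1 this.symm
  set S := (Set.toFinite b).toFinset with hS
  have horth : ∀ k : ℕ, ¬ 8 ∣ k → ∑ ψ ∈ S, μ ψ ^ k = 0 := fun k hk => by
    have hsing : 2 ∣ orderOf (σ ^ k) := by
      rw [orderOf_pow, hσ]
      have h8 : Nat.gcd 8 k ∈ Nat.divisors (2 ^ 3) :=
        Nat.mem_divisors.2 ⟨by norm_num; exact Nat.gcd_dvd_left 8 k, by norm_num⟩
      rw [Nat.mem_divisors_prime_pow Nat.prime_two] at h8
      obtain ⟨j, hj, hj'⟩ := h8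
      have : j ≠ 3 := fun e => hk (by rw [e] at hj'; norm_num at hj'; exact hj' ▸ Nat.gcd_dvd_right 8 k)
      rw [hj']
      interval_cases j <;> norm_num <;> exact absurd rfl this
    have h := sum_block_regular_singular (p := 2) hM hb (x := (1 : K)) (by simp) hsing
    rw [finsum_mem_eq_finite_toFinset_sum _ (Set.toFinite b), Finset.sum_congr rfl
      (g := fun ψ => μ ψ ^ k * ((ξ : K → ℂ) 1 * (ξ : K → ℂ) 1)) fun ψ hψ => ?_,
      ← Finset.sum_mul] at h
    · exact (mul_eq_zero.1 h).resolve_right (mul_ne_zero hξ1 hξ1)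
    · have := hμpow ψ k 1
      rw [mul_one] at this
      rw [this, hdeg ψ ((Set.Finite.mem_toFinset _).1 hψ)]
      ring
  have huniq : ∀ i < 8, ∀ j < 8, ∀ w w' : K, ¬ 2 ∣ orderOf w → ¬ 2 ∣ orderOf w' →
      σ ^ i * w = σ ^ j * w' → i = j ∧ w = w' := fun i hi j hj w w' hw hw' h => by
    have hp : ∀ (n : ℕ) (v : K), ¬ 2 ∣ orderOf v → IsPPart 2 (σ ^ n * v) (σ ^ n) := fun n v hv => by
      refine ⟨v, rfl, (hcen n v).symm, ?_, hv⟩
      have hd : orderOf (σ ^ n) ∣ 2 ^ 3 := by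
        rw [show 2 ^ 3 = orderOf σ by rw [hσ]; norm_num]; exact orderOf_pow_dvd n
      exact ((Nat.dvd_prime_pow Nat.prime_two).1 hd).imp fun _ h => h.2
    have h1 := conj_pPart_eq Nat.prime_two (hp i w hw) (h ▸ hp j w' hw') (x := 1) (j := 1)
      (by norm_num) (by simp)
    simp only [inv_one, one_mul, mul_one] at h1
    refine ⟨?_, ?_⟩
    · have := pow_eq_pow_iff_modEq.1 h1
      rw [hσ] at this
      rwa [Nat.ModEq, Nat.mod_eq_of_lt hi, Nat.mod_eq_of_lt hj] at this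
    · rw [h1] at h
      exact mul_left_cancel h
  have hev : ∀ f : K → ℂ, ∀ ψ ∈ b,
      ev ψ f = ∑ i ∈ Finset.range 8, μ ψ ^ (7 * i) * piece ξ σ f i := fun f ψ hψ => by
    let T := (Finset.range 8) ×ˢ (Finset.univ.filter fun w : K => ¬ 2 ∣ orderOf w)
    have hinj : Set.InjOn (fun z : ℕ × K => σ ^ z.1 * z.2) T := fun z hz z' hz' h => by
      simp only [T, Finset.coe_product, Set.mem_prod, Finset.mem_coe, Finset.mem_range,
        Finset.mem_filter, Finset.mem_univ, true_and] at hz hz'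
      obtain ⟨h1, h2⟩ := huniq _ hz.1 _ hz'.1 _ _ hz.2 hz'.2 h
      exact Prod.ext h1 h2
    rw [ev, ← Finset.sum_subset (Finset.subset_univ (T.image fun z : ℕ × K => σ ^ z.1 * z.2))
      fun g _ hg => ?_, Finset.sum_image hinj, Finset.sum_product, Finset.sum_div]
    · refine Finset.sum_congr rfl fun i hi => ?_
      rw [piece, ev, hdeg ψ hψ, ← mul_div_assoc, Finset.sum_filter, Finset.mul_sum]
      refine congrArg (· / _) (Finset.sum_congr rfl fun w _ => ?_)
      by_cases hw : 2 ∣ orderOf w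
      · rw [if_neg (not_not.2 hw), if_pos hw, zero_mul, mul_zero]
      · have e : (σ ^ i * w)⁻¹ = σ ^ (7 * i) * w⁻¹ := by
          rw [mul_inv_rev, show (σ ^ i)⁻¹ = σ ^ (7 * i) from inv_eq_of_mul_eq_one_right (by
            rw [← pow_add, show i + 7 * i = 8 * i by ring, pow_mul, ← hσ, pow_orderOf_eq_one,
              one_pow]), hcen (7 * i)]
        rw [if_pos hw, if_neg hw, e, hμpow, hreg ψ hψ w⁻¹ (by rwa [orderOf_inv])]
        ring
    · by_contra hne
      obtain ⟨i, hi, w, hw, he⟩ := hvan ψ hψ g⁻¹ fun h0 => hne (by rw [h0, mul_zero])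
      refine hg (Finset.mem_image.2 ⟨((7 * i) % 8, w⁻¹), ?_, ?_⟩)
      · simpa [T, Nat.mod_lt] using hw
      · show σ ^ (7 * i % 8) * w⁻¹ = g
        rw [← hσ, pow_mod_orderOf, ← inv_inj (b := g), he, mul_inv_rev, inv_inv,
          ← hcen i w]
        congr 1
        refine inv_eq_of_mul_eq_one_right ?_
        rw [← pow_add, show 7 * i + i = 8 * i by ring, pow_mul, ← hσ, pow_orderOf_eq_one, one_pow]
  refine ⟨ξ, hξ, fun A hA hzero => ?_⟩
  have hred : ∀ ψ : IrrCharacter K, ∀ k r : ℕ, μ ψ ^ (8 * k + r) = μ ψ ^ r := fun ψ k r => by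
    rw [pow_add, pow_mul, hμ8, one_pow, one_mul]
  have hevA : ∀ ψ ∈ b, ev ψ A = μ ψ ^ 5 * piece ξ σ A 3 + μ ψ ^ 3 * piece ξ σ A 5 :=
    fun ψ hψ => by
      rw [hev A ψ hψ]
      simp only [Finset.sum_range_succ, Finset.sum_range_zero, zero_add,
        hzero 0 (by norm_num) (by norm_num) (by norm_num),
        hzero 1 (by norm_num) (by norm_num) (by norm_num),
        hzero 2 (by norm_num) (by norm_num) (by norm_num),
        hzero 4 (by norm_num) (by norm_num) (by norm_num),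
        hzero 6 (by norm_num) (by norm_num) (by norm_num),
        hzero 7 (by norm_num) (by norm_num) (by norm_num), mul_zero, add_zero, zero_add]
      rw [show 7 * 3 = 8 * 2 + 5 from rfl, hred, show 7 * 5 = 8 * 4 + 3 from rfl, hred]
  have hcard : (S.card : ℂ) ≠ 0 :=
    Nat.cast_ne_zero.2 (Finset.card_ne_zero_of_mem ((Set.Finite.mem_toFinset _).2 hξ))
  have h1 : ∑ ψ ∈ S, μ ψ ^ 2 * ev ψ (conv A A) = (S.card : ℂ) * piece ξ σ (conv A A) 2 := by
    rw [Finset.sum_congr rfl fun ψ hψ => by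
      rw [hev _ ψ ((Set.Finite.mem_toFinset _).1 hψ), Finset.mul_sum], Finset.sum_comm]
    rw [Finset.sum_eq_single 2 (fun i hi h2 => ?_) (fun h => absurd (Finset.mem_range.2 (by norm_num)) h)]
    · simp only [← mul_assoc, ← pow_add, show 2 + 7 * 2 = 8 * 2 + 0 from rfl, hred, pow_zero,
        one_mul, Finset.sum_const, nsmul_eq_mul]
    · simp only [← mul_assoc, ← pow_add, ← Finset.sum_mul]
      rw [horth _ (by rw [Finset.mem_range] at hi; omega), zero_mul]
  have h2 : ∑ ψ ∈ S, μ ψ ^ 2 * ev ψ (conv A A) = (S.card : ℂ) * piece ξ σ A 5 ^ 2 := by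
    rw [Finset.sum_congr rfl (g := fun ψ => μ ψ ^ 4 * piece ξ σ A 3 ^ 2 +
      μ ψ ^ 2 * (2 * (piece ξ σ A 3 * piece ξ σ A 5)) + piece ξ σ A 5 ^ 2) fun ψ hψ => ?_,
      Finset.sum_add_distrib, Finset.sum_add_distrib, ← Finset.sum_mul, ← Finset.sum_mul,
      horth 4 (by norm_num), horth 2 (by norm_num), zero_mul, zero_mul, zero_add, zero_add,
      Finset.sum_const, nsmul_eq_mul]
    rw [ev_conv ψ A hA, hevA ψ ((Set.Finite.mem_toFinset _).1 hψ)]
    have h8 := hμ8 ψ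
    linear_combination (μ ψ ^ 4 * piece ξ σ A 3 ^ 2 +
      μ ψ ^ 2 * (2 * (piece ξ σ A 3 * piece ξ σ A 5)) + piece ξ σ A 5 ^ 2) * h8
  exact mul_left_cancel₀ hcard (h1.symm.trans h2)

end CfsgLib.Blocks.DihedralDefect
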