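import Cfsg.Agent.Lib.Blocks.DihedralDefect.Shape
import Cfsg.Agent.Lib.Blocks.DihedralDefect.Graded
import Cfsg.Agent.Lib.Pairs.NilpotentLocal

/-!
# Exclusion of the exceptional configuration of a dihedral defect group of order 16
-/

set_option autoImplicit false

namespace CfsgLib.Blocks.DihedralDefect

open Cfsg CfsgLib.Blocks CfsgLib.Pairs CfsgLib.Star CfsgLib.Char
open scoped Classical ComplexConjugate

variable {G : Type*} [Group G] [Fintype G] {M : Ideal AlgInt} [M.IsPrime] [Fact (Nat.Prime 2)]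
variable {H : Subgroup G} {B : Set (IrrCharacter G)}
  {b : Set (IrrCharacter H)} {D : Subgroup H} {σ τ : H} {q : ℕ} {l : Subgroup.zpowers σ →* ℂˣ}
  {e : Set (IrrCharacter (Subgroup.centralizer (D : Set H)))} {F : FusionSystem D}
  {ξ₀ : IrrCharacter H} {Φ : IrrCharacter D ≃ b}

/-- The square root of 2 attached to the rotation character. -/
noncomputable def rt (l : Subgroup.zpowers σ →* ℂˣ) : ℂ :=
  ((l ⟨σ, Subgroup.mem_zpowers σ⟩ : ℂˣ) : ℂ) + ((l ⟨σ, Subgroup.mem_zpowers σ⟩ : ℂˣ) : ℂ)⁻¹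

/-- The coefficients of the combination of rotation functions. -/
noncomputable def wgt (l : Subgroup.zpowers σ →* ℂˣ) (j : ℕ) : ℂ :=
  if j = 4 then 1 / 8 else if j = 1 then rt l / 8 else -(rt l / 8)

/-- The combination of rotation functions taking the values 0 and 1. -/
noncomputable def afn (l : Subgroup.zpowers σ →* ℂˣ) (g : H) : ℂ :=
  ∑ j ∈ ({1, 3, 4} : Finset ℕ), wgt l j * dlt l j g

section Values

variable (h : Dih D σ τ 4 l)
include h

theorem rot_eight (x : Subgroup.zpowers σ) : ((l x : ℂˣ) : ℂ) ^ 8 = 1 := h.l_pow x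

theorem rot_four : ((l ⟨σ, Subgroup.mem_zpowers σ⟩ : ℂˣ) : ℂ) ^ 4 = -1 := by
  rw [← h.l_z, ← Units.val_pow_eq_pow_val, ← map_pow]
  rfl

theorem rt_sq : rt l * rt l = 2 := by
  have h4 := rot_four h
  have h0 : ((l ⟨σ, Subgroup.mem_zpowers σ⟩ : ℂˣ) : ℂ) ≠ 0 := Units.ne_zero _
  rw [rt]
  field_simp
  linear_combination h4

omit h in
theorem afn_of_notMem {g : H} (hg : g ∉ Subgroup.zpowers σ) : afn l g = 0 :=
  Finset.sum_eq_zero fun j _ => by rw [dlt_of_notMem hg, mul_zero]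

omit h in
theorem afn_coe (x : Subgroup.zpowers σ) : afn l (x : H) =
    (2 - ((l x : ℂˣ) : ℂ) ^ 4 - (((l x : ℂˣ) : ℂ) ^ 4)⁻¹) / 8 +
      rt l / 8 * (((l x : ℂˣ) : ℂ) ^ 3 + (((l x : ℂˣ) : ℂ) ^ 3)⁻¹ -
        ((l x : ℂˣ) : ℂ) - ((l x : ℂˣ) : ℂ)⁻¹) := by
  rw [afn, Finset.sum_insert (by decide), Finset.sum_insert (by decide), Finset.sum_singleton]
  simp only [show ¬ (3 : ℕ) = 4 by norm_num, wgt, dlt_coe, if_true, if_false,
    show ¬ (1 : ℕ) = 4 by norm_num, show ¬ (3 : ℕ) = 1 by norm_num, pow_one, inv_pow]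
  ring

omit h in
theorem afn_one : afn l (1 : H) = 0 :=
  Finset.sum_eq_zero fun j _ => by rw [dlt_one, mul_zero]

theorem afn_eq_zero_of_pow_four {x : H} (hx : x ^ 4 = 1) : afn l x = 0 := by
  by_cases hm : x ∈ Subgroup.zpowers σ
  swap
  · exact afn_of_notMem hm
  have h1 : (l ⟨x, hm⟩ : ℂˣ) ^ 4 = 1 := by
    rw [← map_pow, show (⟨x, hm⟩ : Subgroup.zpowers σ) ^ 4 = 1 from Subtype.ext hx, map_one]
  have hX : ((l ⟨x, hm⟩ : ℂˣ) : ℂ) ^ 4 = 1 := by rw [← Units.val_pow_eq_pow_val, h1, Units.val_one]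
  rw [show x = ((⟨x, hm⟩ : Subgroup.zpowers σ) : H) from rfl, afn_coe]
  set X := ((l ⟨x, hm⟩ : ℂˣ) : ℂ)
  have e3 : (X ^ 3)⁻¹ = X := inv_eq_of_mul_eq_one_right (by linear_combination hX)
  have e1 : X⁻¹ = X ^ 3 := inv_eq_of_mul_eq_one_right (by linear_combination hX)
  rw [e3, e1, hX]
  norm_num

/-- Off the elements of order at most 4 the value is read off a square root. -/
theorem afn_primitive {x : Subgroup.zpowers σ} (hX : ((l x : ℂˣ) : ℂ) ^ 4 = -1) :
    afn l (x : H) = (2 - rt l * (((l x : ℂˣ) : ℂ) + ((l x : ℂˣ) : ℂ)⁻¹)) / 4 := by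
  rw [afn_coe]
  set X := ((l x : ℂˣ) : ℂ)
  have e3 : (X ^ 3)⁻¹ = -X := inv_eq_of_mul_eq_one_right (by linear_combination -hX)
  have e1 : X⁻¹ = -X ^ 3 := inv_eq_of_mul_eq_one_right (by linear_combination -hX)
  rw [e3, e1, hX]
  norm_num
  ring

theorem afn_cases (g : H) : afn l g = 0 ∨ afn l g = 1 := by
  by_cases hm : g ∈ Subgroup.zpowers σ
  swap
  · exact Or.inl (afn_of_notMem hm)
  have h8 := rot_eight h ⟨g, hm⟩
  rw [show g = ((⟨g, hm⟩ : Subgroup.zpowers σ) : H) from rfl]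
  set X := ((l ⟨g, hm⟩ : ℂˣ) : ℂ) with hXdef
  have hX0 : X ≠ 0 := Units.ne_zero _
  by_cases hX : X ^ 4 = 1
  · refine Or.inl (afn_eq_zero_of_pow_four h ?_)
    have : (⟨g, hm⟩ : Subgroup.zpowers σ) ^ 4 = 1 :=
      h.l_inj (by rw [map_pow, Units.val_pow_eq_pow_val, ← hXdef, hX])
    exact congrArg Subtype.val this
  have h4 : X ^ 4 = -1 := by
    have : (X ^ 4 - 1) * (X ^ 4 + 1) = 0 := by linear_combination h8
    exact eq_neg_of_add_eq_zero_left ((mul_eq_zero.1 this).resolve_left (sub_ne_zero.2 hX))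
  have hsq : (X + X⁻¹) * (X + X⁻¹) = rt l * rt l := by
    rw [rt_sq h]
    field_simp
    linear_combination h4
  rw [afn_primitive h h4, ← hXdef]
  rcases mul_self_eq_mul_self_iff.1 hsq with hs | hs <;> rw [hs]
  · left; linear_combination (-(1 : ℂ) / 4) * rt_sq h
  · right; linear_combination ((1 : ℂ) / 4) * rt_sq h

theorem afn_rot {i : ℕ} (hi : i = 1 ∨ i = 7) : afn l (σ ^ i) = 0 := by
  have h4 := rot_four h
  set X := ((l ⟨σ, Subgroup.mem_zpowers σ⟩ : ℂˣ) : ℂ) with hX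
  have hXi : ((l (⟨σ, Subgroup.mem_zpowers σ⟩ ^ i) : ℂˣ) : ℂ) = X ^ i := by
    rw [map_pow, Units.val_pow_eq_pow_val]
  rw [show σ ^ i = (((⟨σ, Subgroup.mem_zpowers σ⟩ : Subgroup.zpowers σ) ^ i :
    Subgroup.zpowers σ) : H) from rfl, afn_primitive h (by
      rw [hXi, ← pow_mul, mul_comm, pow_mul, h4]; rcases hi with rfl | rfl <;> norm_num), hXi]
  have h7 : X ^ 7 = X⁻¹ := (inv_eq_of_mul_eq_one_right
    (by linear_combination (X ^ 4 - 1) * h4)).symm
  rcases hi with rfl | rfl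
  · rw [pow_one, ← rt, rt_sq h]; norm_num
  · rw [h7, inv_inv, add_comm, ← rt, rt_sq h]; norm_num

theorem afn_five : afn l (σ ^ 5) = 1 := by
  have h4 := rot_four h
  set X := ((l ⟨σ, Subgroup.mem_zpowers σ⟩ : ℂˣ) : ℂ) with hX
  have hXi : ((l (⟨σ, Subgroup.mem_zpowers σ⟩ ^ 5) : ℂˣ) : ℂ) = -X := by
    rw [map_pow, Units.val_pow_eq_pow_val]
    linear_combination X * h4
  rw [show σ ^ 5 = (((⟨σ, Subgroup.mem_zpowers σ⟩ : Subgroup.zpowers σ) ^ 5 :
    Subgroup.zpowers σ) : H) from rfl, afn_primitive h (by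
      rw [hXi, neg_pow]; linear_combination h4), hXi, inv_neg,
    show -X + -X⁻¹ = -rt l by rw [rt]; ring]
  linear_combination ((1 : ℂ) / 4) * rt_sq h

theorem dlt_square {x : H} (hx : x ∈ Subgroup.zpowers σ) (h2 : x * x = σ ^ 4) :
    dlt l 1 x = 2 ∧ dlt l 2 x = 4 ∧ dlt l 3 x = 2 ∧ dlt l 4 x = 0 := by
  have h1 : ((l ⟨x, hx⟩ : ℂˣ) : ℂ) * ((l ⟨x, hx⟩ : ℂˣ) : ℂ) = -1 := by
    rw [← h.l_z, ← Units.val_mul, ← map_mul]
    exact congrArg (fun z => ((l z : ℂˣ) : ℂ)) (Subtype.ext h2)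
  have hd : ∀ j, dlt l j x = 2 - ((l ⟨x, hx⟩ : ℂˣ) : ℂ) ^ j - (((l ⟨x, hx⟩ : ℂˣ) : ℂ)⁻¹) ^ j :=
    fun j => dlt_coe l j ⟨x, hx⟩
  simp only [hd]
  set X := ((l ⟨x, hx⟩ : ℂˣ) : ℂ)
  have e : X⁻¹ = -X := inv_eq_of_mul_eq_one_right (by linear_combination -h1)
  simp only [e]
  refine ⟨by ring, by linear_combination (-2 : ℂ) * h1, by ring,
    by linear_combination (-2 * (X * X - 1) : ℂ) * h1⟩

end Values

variable [Fintype (IrrCharacter D)] (C : Ctx M B b D σ τ q l e F ξ₀ Φ)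
include C

omit [Fintype (IrrCharacter D)] in
theorem Ctx.isClassFunction_afn : IsClassFunction D fun x : D => afn l (x : H) := fun g y => by
  simp only [afn, Subgroup.coe_mul, Subgroup.coe_inv, C.dih.dlt_conj y.2]

theorem Ctx.supp_afn (g : H) (hne : comb Φ (afn l) g ≠ 0) : Supp ((σ ^ q : H) : G) (g : G) :=
  C.supp_of_comb_ne_zero C.isClassFunction_afn afn_one (fun _ _ hx => afn_of_notMem hx) g hne

theorem Ctx.comb_afn_mem (hq : q = 4) (g : H) : comb Φ (afn l) g ∈ localRing M := by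
  subst hq
  obtain ⟨u, s, hu, hs, hc, rfl⟩ := exists_decomp (p := 2) g
  have hsC : s ∈ Subgroup.centralizer (Subgroup.zpowers u : Set H) := by
    refine Subgroup.mem_centralizer_iff.2 fun z hz => ?_
    obtain ⟨n, rfl⟩ := Subgroup.mem_zpowers_iff.1 hz
    exact (hc.zpow_left n).eq
  have := Fintype.ofFinite {f : Set (IrrCharacter (Subgroup.centralizer (Subgroup.zpowers u : Set H)))
    // IsPBlock M f}
  rw [show s = ((⟨s, hsC⟩ : Subgroup.centralizer (Subgroup.zpowers u : Set H)) : H) from rfl,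
    C.loc.comb_eq_sum_blockPart _ hu (by rwa [Subgroup.orderOf_mk])]
  refine Subring.sum_mem _ fun f _ => ?_
  by_cases hf : IsBrauerPairOf 2 M b (Subgroup.zpowers u) f.1
  · obtain ⟨x, hx⟩ := exists_conj_le C.loc.modular C.loc.hF.1 hf
    refine mul_mem ?_ ?_
    · rw [C.loc.combWt_eq C.isClassFunction_afn (w := ⟨Subgroup.zpowers u, f.1⟩)
        (Subgroup.mem_zpowers u) hx]
      rcases afn_cases C.dih (x * u * x⁻¹) with h | h <;> rw [h]
      exacts [zero_mem _, one_mem _]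
    · rw [blockPart_eq_sum_blockCoeff _ (fun c d => ?_)]
      · exact Subring.sum_mem _ fun k _ => mul_mem (blockCoeff_mem f.2 k)
          (mem_localRing_of_isIntegral (Char.IsChar.isIntegral (Char.IsIrr.isCharacter ξ₀.2) _))
      · have hd : Commute u (d : H) :=
          Subgroup.mem_centralizer_iff.1 d.2 u (Subgroup.mem_zpowers u)
        simp only [Subgroup.coe_mul, Subgroup.coe_inv]
        rw [show u * ((d : H) * c * (d : H)⁻¹) = (d : H) * (u * c) * (d : H)⁻¹ by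
          simp only [← mul_assoc, hd.eq]]
        exact Char.IsIrr.isClassFunction ξ₀.2 _ _
  · rw [part_eq_zero_of_not_pairOf C.loc.modular hu C.loc.hF.1.1.2.1 C.loc.mem f.2 hf
      (by rwa [Subgroup.orderOf_mk]), mul_zero]
    exact zero_mem _

theorem Ctx.indFun_afn_mem (hq : q = 4) (g : G) : indFun H (comb Φ (afn l)) g ∈ localRing M := by
  by_cases hx : ∃ x : G, Supp ((σ ^ q : H) : G) (x⁻¹ * g * x)
  · obtain ⟨x, hx⟩ := hx
    have hH : x⁻¹ * g * x ∈ H := by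
      obtain ⟨m, hm⟩ := hx
      refine C.mem_of_commute ?_
      rw [← hm]
      exact Commute.self_pow _ m
    have h1 := isClassFunction_indFun H (comb Φ (afn l)) g x⁻¹
    rw [inv_inv] at h1
    rw [← h1, show x⁻¹ * g * x = ((⟨_, hH⟩ : H) : G) from rfl,
      indFun_eq_self C.z_sq C.z_ne C.hmem (isClassFunction_comb _) C.supp_afn hx]
    exact C.comb_afn_mem hq _
  · rw [indFun_eq_zero_of_not_supp C.supp_afn (not_exists.1 hx)]
    exact zero_mem _

theorem Ctx.classInner_indFun_afn (χ : IrrCharacter G) :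
    classInner (indFun H (comb Φ (afn l))) (χ : G → ℂ) =
      ((C.coef 4 χ : ℂ) + rt l * ((C.coef 1 χ : ℂ) - (C.coef 3 χ : ℂ))) / 8 := by
  have h1 : comb Φ (afn l) = ∑ j ∈ ({1, 3, 4} : Finset ℕ), wgt l j • comb Φ (dlt l j) :=
    comb_add_smul _ _ _
  rw [h1, indFun_sum, classInner_sum_left, Finset.sum_insert (by decide),
    Finset.sum_insert (by decide), Finset.sum_singleton]
  simp only [indFun_smul, classInner_smul_left, C.coef_spec,
    show ¬ (3 : ℕ) = 4 by norm_num, wgt, if_true, if_false,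
    show ¬ (1 : ℕ) = 4 by norm_num, show ¬ (3 : ℕ) = 1 by norm_num]
  ring

/-- The value of the convolution square on the section of a rotation of order 4. -/
theorem Ctx.conv_afn_apply (hq : q = 4) {N : ℤ} (hN : N ≠ 0) {g₁ g₂ g₃ g₄ : ℂ}
    (hf : ∀ t ∈ (Set.toFinite B).toFinset,
      6 * ((C.coef 4 t : ℂ) + rt l * ((C.coef 1 t : ℂ) - (C.coef 3 t : ℂ))) ^ 2 * (N : ℂ) ^ 2 =
        ((charDegree (t : G → ℂ) : ℤ) : ℂ) * (3 * ((charDegree (t : G → ℂ) : ℤ) : ℂ) + (N : ℂ) *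
          (g₁ * (C.coef 1 t : ℂ) + g₂ * (C.coef 2 t : ℂ) + g₃ * (C.coef 3 t : ℂ) +
            g₄ * (C.coef 4 t : ℂ))))
    {w : H} (hw : ¬ 2 ∣ orderOf w) (hc : Commute σ w) :
    conv (indFun H (comb Φ (afn l))) (indFun H (comb Φ (afn l))) ((σ ^ 2 * w : H) : G) =
      (Nat.card G : ℂ) / (384 * (N : ℂ)) * (2 * g₁ + 4 * g₂ + 2 * g₃) *
        (ξ₀ : H → ℂ) (σ ^ 2 * w) := by
  subst hq
  have := Fintype.ofFinite (IrrCharacter G)
  have hσ8 : orderOf σ = 8 := C.dih.ord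
  have hu : ∃ k : ℕ, orderOf (σ ^ 2) = 2 ^ k := ⟨2, by rw [orderOf_pow, hσ8]; norm_num⟩
  set g : H := σ ^ 2 * w with hg
  have hgz : (σ ^ 2 * w) ^ (2 * orderOf w) = σ ^ 4 := by
    obtain ⟨a, ha⟩ : Odd (orderOf w) := Nat.odd_iff.2 (Nat.two_dvd_ne_zero.1 hw)
    rw [(hc.pow_left 2).mul_pow, pow_mul' w, pow_orderOf_eq_one, one_pow, mul_one, ← pow_mul, ha,
      show 2 * (2 * (2 * a + 1)) = 8 * a + 4 by ring, pow_add, pow_mul, ← hσ8, pow_orderOf_eq_one,
      one_pow, one_mul]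
  have hgs : Supp ((σ ^ 4 : H) : G) (g : G) :=
    ⟨2 * orderOf w, by rw [← SubgroupClass.coe_pow, hgz]⟩
  have hX : ∀ j, ∀ v : ℂ, (∀ x : H, x * σ ^ 2 * x⁻¹ ∈ D → dlt l j (x * σ ^ 2 * x⁻¹) = v) →
      ∑ t ∈ (Set.toFinite B).toFinset, (C.coef j t : ℂ) * (t : G → ℂ) (g : G) =
        v * (ξ₀ : H → ℂ) g := fun j v hv => by
    rw [← C.indFun_eq_sum, indFun_eq_self C.z_sq C.z_ne C.hmem (isClassFunction_comb _)
      (C.supp_dlt j) hgs]
    exact C.loc.comb_apply_const (C.isClassFunction_restrict j) hu hw (hc.pow_left 2) hv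
  have himg : ∀ x : H, x * σ ^ 2 * x⁻¹ ∈ D →
      dlt l 1 (x * σ ^ 2 * x⁻¹) = 2 ∧ dlt l 2 (x * σ ^ 2 * x⁻¹) = 4 ∧
        dlt l 3 (x * σ ^ 2 * x⁻¹) = 2 ∧ dlt l 4 (x * σ ^ 2 * x⁻¹) = 0 := fun x hx => by
    have h2 : x * σ ^ 2 * x⁻¹ * (x * σ ^ 2 * x⁻¹) = σ ^ 4 := by
      rw [show x * σ ^ 2 * x⁻¹ * (x * σ ^ 2 * x⁻¹) = x * σ ^ 4 * x⁻¹ by group,
        ← (C.z_central x).eq, mul_inv_cancel_right]
    refine dlt_square C.dih ?_ h2
    by_contra hn
    exact C.dih.z_ne (h2.symm.trans (C.dih.sq_eq_one hx hn))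
  have hX1 := hX 1 2 fun x hx => (himg x hx).1
  have hX2 := hX 2 4 fun x hx => (himg x hx).2.1
  have hX3 := hX 3 2 fun x hx => (himg x hx).2.2.1
  have hX4 := hX 4 0 fun x hx => (himg x hx).2.2.2
  have hdeg : ∑ t ∈ (Set.toFinite B).toFinset, (t : G → ℂ) 1 * (t : G → ℂ) (g : G) = 0 := by
    rw [← finsum_mem_eq_finite_toFinset_sum _ (Set.toFinite B)]
    exact sum_block_regular_singular (p := 2) C.loc.modular C.ind.2.1 (by simp)
      (hgs.not_two_dvd C.z_sq C.z_ne)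
  have hN' : (N : ℂ) ≠ 0 := Int.cast_ne_zero.2 hN
  rw [conv_self_eq_sum (isClassFunction_indFun _ _),
    ← Finset.sum_subset (Finset.subset_univ (Set.toFinite B).toFinset) fun χ _ hχ => by
      rw [C.classInner_indFun_afn, C.coef_outside 4 fun h => hχ ((Set.Finite.mem_toFinset _).2 h),
        C.coef_outside 1 fun h => hχ ((Set.Finite.mem_toFinset _).2 h),
        C.coef_outside 3 fun h => hχ ((Set.Finite.mem_toFinset _).2 h)]
      simp,
    Finset.sum_congr rfl (g := fun t : IrrCharacter G => (Nat.card G : ℂ) / (384 * (N : ℂ) ^ 2) * 3 *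
        ((t : G → ℂ) 1 * (t : G → ℂ) (g : G)) +
      (Nat.card G : ℂ) / (384 * (N : ℂ)) *
        (g₁ * ((C.coef 1 t : ℂ) * (t : G → ℂ) (g : G)) +
          g₂ * ((C.coef 2 t : ℂ) * (t : G → ℂ) (g : G)) +
          g₃ * ((C.coef 3 t : ℂ) * (t : G → ℂ) (g : G)) +
          g₄ * ((C.coef 4 t : ℂ) * (t : G → ℂ) (g : G)))) fun t ht => ?_,
    Finset.sum_add_distrib, ← Finset.mul_sum, hdeg, ← Finset.mul_sum]
  · simp only [Finset.sum_add_distrib, ← Finset.mul_sum, hX1, hX2, hX3, hX4]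
    ring
  · have h := hf t ht
    have ht1 : ((charDegree (t : G → ℂ) : ℤ) : ℂ) = (t : G → ℂ) 1 := by
      rw [apply_one_eq_charDegree]; push_cast; rfl
    rw [ht1] at h
    have h1 := Char.IsIrr.apply_one_ne_zero t.2
    rw [C.classInner_indFun_afn, div_pow]
    generalize ((C.coef 4 t : ℂ) + rt l * ((C.coef 1 t : ℂ) - (C.coef 3 t : ℂ))) = f at h ⊢
    rw [show f ^ 2 = (t : G → ℂ) 1 * (3 * (t : G → ℂ) 1 + (N : ℂ) * (g₁ * (C.coef 1 t : ℂ) +
        g₂ * (C.coef 2 t : ℂ) + g₃ * (C.coef 3 t : ℂ) + g₄ * (C.coef 4 t : ℂ))) /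
          (6 * (N : ℂ) ^ 2) by
      rw [eq_div_iff (by simp [hN'])]; linear_combination h]
    field_simp
    ring

/-- The exceptional configuration does not occur. -/
theorem Ctx.not_exceptional (hq : q = 4) {N : ℤ}
    (hex : ∃ t ∈ (Set.toFinite B).toFinset, Odd (C.cc t) ∧ (charDegree (t : G → ℂ) : ℤ) = N)
    (h : ∀ r : ℂ, r * r = 2 → ∃ g₁ g₂ g₃ g₄ : ℂ,
      (2 * g₁ + 4 * g₂ + 2 * g₃ = 32 ∨ 2 * g₁ + 4 * g₂ + 2 * g₃ = -32) ∧
        ∀ t ∈ (Set.toFinite B).toFinset,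
          6 * ((C.coef 4 t : ℂ) + r * ((C.coef 1 t : ℂ) - (C.coef 3 t : ℂ))) ^ 2 * (N : ℂ) ^ 2 =
            ((charDegree (t : G → ℂ) : ℤ) : ℂ) * (3 * ((charDegree (t : G → ℂ) : ℤ) : ℂ) +
              (N : ℂ) * (g₁ * (C.coef 1 t : ℂ) + g₂ * (C.coef 2 t : ℂ) +
                g₃ * (C.coef 3 t : ℂ) + g₄ * (C.coef 4 t : ℂ)))) : False := by
  subst hq
  obtain ⟨g₁, g₂, g₃, g₄, hg, hf⟩ := h (rt l) (rt_sq C.dih)
  obtain ⟨t₀, ht₀, hodd, hN⟩ := hex
  have ht₀B : t₀ ∈ B := (Set.Finite.mem_toFinset _).1 ht₀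
  have hB : IsPBlock M B := C.ind.2.1
  have hM := C.loc.modular
  -- the value of the square is in the ideal
  obtain ⟨R, hR, hR2⟩ := exists_factorization (p := 2) (Nat.card_pos (α := G)).ne'
  obtain ⟨S, hS, hS2⟩ := exists_factorization (p := 2) (charDegree_pos t₀).ne'
  have hpow : blockDefect 2 B = 4 := Nat.pow_right_injective le_rfl (C.pow.trans (by norm_num))
  rw [card_eq_minExp_add hM hB, hpow, pow_add] at hR
  rw [(blockHeight_eq_zero_iff_minExp ht₀B).1 ((C.height_eq_zero_iff ht₀B).2 hodd)] at hS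
  have hK : MemLocalIdeal M
      ((Nat.card G : ℂ) / (384 * (N : ℂ)) * (2 * g₁ + 4 * g₂ + 2 * g₃)) := by
    obtain ⟨ε, hε, hεmem⟩ : ∃ ε : ℂ, 2 * g₁ + 4 * g₂ + 2 * g₃ = 32 * ε ∧ ε ∈ localRing M := by
      rcases hg with hg | hg
      · exact ⟨1, by rw [hg, mul_one], one_mem _⟩
      · exact ⟨-1, by rw [hg]; norm_num, neg_mem (one_mem _)⟩
    have h2 : MemLocalIdeal M (2 : ℂ) := by
      have := residue_natCast_self (M := M) hM
      have := residue_eq_zero_iff.1 this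
      exact_mod_cast this
    have h3 : (((3 * S : ℕ) : ℂ))⁻¹ ∈ localRing M :=
      inv_natCast_mem hM fun hd => ((Nat.prime_two.dvd_mul).1 hd).elim (by norm_num) hS2
    have hmem : (2 * (R : ℂ)) * (((3 * S : ℕ) : ℂ))⁻¹ * ε ∈ localRing M :=
      mul_mem (mul_mem (mul_mem (natCast_mem _ 2) (natCast_mem _ R)) h3) hεmem
    convert memLocalIdeal_mul h2 hmem using 1
    rw [hε, ← hN, hR, hS]
    have hS0 : (S : ℂ) ≠ 0 := Nat.cast_ne_zero.2 fun e => hS2 (e ▸ dvd_zero 2)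
    push_cast
    field_simp
    ring
  have hN0 : N ≠ 0 := by
    rw [← hN]
    exact_mod_cast (charDegree_pos t₀).ne'
  -- the local block at the rotations
  set CF := Subgroup.centralizer (Subgroup.zpowers σ : Set H) with hCF
  have hσF : σ ∈ CF := Subgroup.mem_centralizer_iff.2 fun y hy => by
    obtain ⟨n, rfl⟩ := Subgroup.mem_zpowers_iff.1 hy
    exact (Commute.zpow_self σ n).eq
  set s : CF := ⟨σ, hσF⟩ with hs
  have hcs : ∀ c : CF, Commute σ (c : H) := fun c =>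
    Subgroup.mem_centralizer_iff.1 c.2 σ (Subgroup.mem_zpowers σ)
  have hc8 : ∀ c : CF, c * s = s * c := fun c => Subtype.ext (hcs c).symm.eq
  have hs8 : orderOf s = 8 := by rw [hs, Subgroup.orderOf_mk]; exact C.dih.ord
  have hmax := C.loc.hF.1
  obtain ⟨bs, hbs, hle⟩ := exists_below hM (Nat.card D) (Nat.sub_le _ _) hmax.1.1
    C.dih.zpowers_le
  have hpair := (subpairLE_pairOf_iff hM (a := ⟨Subgroup.zpowers σ, bs⟩) hle b).1 hmax.1
  have hnil := isNilpotentBlock_local hM C.loc.nil hpair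
  have hdef := isDefectGroup_local hM C.loc.nil hmax hle
  rw [show (D ⊓ CF).subgroupOf CF = Subgroup.zpowers s from Subgroup.ext fun c => by
    rw [Subgroup.mem_subgroupOf, Subgroup.mem_inf]
    refine ⟨fun h => ?_, fun h => ?_⟩
    · obtain ⟨n, hn⟩ := Subgroup.mem_zpowers_iff.1
        (C.dih.mem_zpowers_of_commute h.1 (hcs c).symm)
      exact Subgroup.mem_zpowers_iff.2 ⟨n, Subtype.ext (by rw [Subgroup.coe_zpow]; exact hn)⟩
    · obtain ⟨n, rfl⟩ := Subgroup.mem_zpowers_iff.1 h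
      exact ⟨by rw [Subgroup.coe_zpow]; exact zpow_mem C.dih.memσ n, Subtype.coe_prop _⟩] at hdef
  obtain ⟨ξ, hξ, hgr⟩ := exists_piece_conv hM hnil hs8 hc8 hdef
  have := Fintype.ofFinite (IrrCharacter CF)
  set Y : G → ℂ := indFun H (comb Φ (afn l)) with hY
  have hYcl : IsClassFunction G Y := isClassFunction_indFun _ _
  set A : CF → ℂ := fun c => Y ((c : H) : G) with hA
  have hAcl : IsClassFunction CF A := fun c d => by
    simp only [hA, Subgroup.coe_mul, Subgroup.coe_inv]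
    exact hYcl _ _
  -- a coset of regular elements meets the support
  have hsupp : ∀ (i : ℕ) (c : CF), ¬ 8 ∣ i → ¬ 2 ∣ orderOf c →
      Supp ((σ ^ 4 : H) : G) ((σ ^ i * (c : H) : H) : G) := fun i c hi hco => by
    have h1 : σ ^ (i * orderOf c) ≠ 1 := fun h => hi (by
      have := orderOf_dvd_of_pow_eq_one h
      rw [show orderOf σ = 8 from C.dih.ord, show (8 : ℕ) = 2 ^ 3 from rfl] at this
      exact (((Nat.prime_two.coprime_iff_not_dvd).2 hco).pow_left 3).dvd_of_dvd_mul_right this)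
    obtain ⟨m, hm⟩ := C.dih.exists_pow_eq_z (Subgroup.npow_mem_zpowers σ _) h1
    refine ⟨orderOf c * m, ?_⟩
    rw [← SubgroupClass.coe_pow, ((hcs c).pow_left i).mul_pow, pow_mul (c : H), ← pow_mul,
      ← mul_assoc i, pow_mul σ (i * orderOf c), hm, ← Subgroup.coe_pow, pow_orderOf_eq_one,
      Subgroup.coe_one, one_pow, mul_one]
  -- the odd pieces
  have hpiece : ∀ i, ¬ 2 ∣ i → piece ξ s A i =
      afn l (σ ^ i) * ev ξ (fun c : CF =>
        if 2 ∣ orderOf c then 0 else (ξ₀ : H → ℂ) (σ ^ i * (c : H))) := fun i hi => by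
    have hcl : ∀ f : H → ℂ, IsClassFunction H f →
        IsClassFunction CF fun c : CF => f (σ ^ i * (c : H)) := fun f hfc c d => by
      have hd : Commute (σ ^ i) (d : H) := (hcs d).pow_left i
      simp only [Subgroup.coe_mul, Subgroup.coe_inv]
      rw [show σ ^ i * ((d : H) * c * (d : H)⁻¹) = (d : H) * (σ ^ i * c) * (d : H)⁻¹ by
        simp only [← mul_assoc, hd.eq]]
      exact hfc _ _
    have hQ : Subgroup.zpowers σ = Subgroup.zpowers (σ ^ i) := by
      refine le_antisymm ?_ (Subgroup.zpowers_le.2 (Subgroup.npow_mem_zpowers σ i))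
      rw [Subgroup.zpowers_le]
      refine mem_zpowers_pow_iff.2 ?_
      rw [show orderOf σ = 8 from C.dih.ord, show (8 : ℕ) = 2 ^ 3 from rfl]
      exact ((Nat.prime_two.coprime_iff_not_dvd).2 hi).pow_left 3 |>.symm
    have hu : ∃ k : ℕ, orderOf (σ ^ i) = 2 ^ k := by
      have := orderOf_pow_dvd (x := σ) i
      rw [show orderOf σ = 2 ^ 3 from C.dih.ord] at this
      exact ((Nat.dvd_prime_pow Nat.prime_two).1 this).imp fun _ h => h.2
    have h1 : ∀ f : CF → ℂ,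
        ev ξ (fun c => if 2 ∣ orderOf c then 0 else f c) =
          (∑ c ∈ Finset.univ.filter (fun c : CF => ¬ 2 ∣ orderOf c),
            f c * (ξ : CF → ℂ) c⁻¹) / (ξ : CF → ℂ) 1 := fun f => by
      rw [ev, Finset.sum_filter]
      exact congrArg (· / _) (Finset.sum_congr rfl fun c _ => by split_ifs <;> simp)
    have hAv : (fun c : CF => A (s ^ i * c)) = fun c : CF => Y ((σ ^ i * (c : H) : H) : G) :=
      funext fun c => by simp [hA, hs]
    have hcl' : IsClassFunction CF fun c : CF => A (s ^ i * c) := by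
      rw [hAv]
      exact hcl (fun x : H => Y (x : G)) fun x y => by
        simp only [Subgroup.coe_mul, Subgroup.coe_inv]; exact hYcl _ _
    rw [piece, h1 fun c => A (s ^ i * c), h1 fun c : CF => (ξ₀ : H → ℂ) (σ ^ i * (c : H)),
      ← sum_regular_blockPart hM hbs hcl' hξ,
      ← sum_regular_blockPart hM hbs (hcl _ (Char.IsIrr.isClassFunction ξ₀.2)) hξ, mul_div_assoc',
      Finset.mul_sum]
    refine congrArg (· / _) (Finset.sum_congr rfl fun c hc => ?_)
    have hco := (Finset.mem_filter.1 hc).2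
    rw [← mul_assoc]
    congr 1
    rw [hAv, blockPart_congr_regular hM hbs (φ' := fun c : CF => comb Φ (afn l) (σ ^ i * (c : H)))
      (fun v hv => indFun_eq_self C.z_sq C.z_ne C.hmem (isClassFunction_comb _) C.supp_afn
        (hsupp i v (fun h => hi (dvd_trans (by norm_num) h)) hv)) hco]
    exact C.loc.comb_blockPart C.isClassFunction_afn hQ hu hbs hle hco
  have hzero : ∀ i < 8, i ≠ 3 → i ≠ 5 → piece ξ s A i = 0 := fun i hi h3 h5 => by
    by_cases hev : 2 ∣ i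
    · refine piece_eq_zero ξ s i fun c hco => ?_
      rw [show A (s ^ i * c) = Y ((σ ^ i * (c : H) : H) : G) by simp [hA, hs]]
      by_cases h0 : i = 0
      · subst h0
        rw [pow_zero, one_mul, hY]
        refine indFun_eq_zero_of_not_supp C.supp_afn fun x hx => hco ?_
        have h2 := hx.not_two_dvd C.z_sq C.z_ne
        have h3 := MulEquiv.orderOf_eq (MulAut.conj x⁻¹) ((c : H) : G)
        rw [MulAut.conj_apply, inv_inv] at h3
        rwa [h3, Subgroup.orderOf_coe, Subgroup.orderOf_coe] at h2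
      rw [hY, indFun_eq_self C.z_sq C.z_ne C.hmem (isClassFunction_comb _) C.supp_afn
        (hsupp i c (by omega) hco),
        C.loc.comb_apply_const C.isClassFunction_afn (v := 0) ?_ (by rwa [Subgroup.orderOf_coe])
          ((hcs c).pow_left i) (fun x _ => ?_), zero_mul]
      · have := orderOf_pow_dvd (x := σ) i
        rw [show orderOf σ = 2 ^ 3 from C.dih.ord] at this
        exact ((Nat.dvd_prime_pow Nat.prime_two).1 this).imp fun _ h => h.2
      · refine afn_eq_zero_of_pow_four C.dih ?_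
        obtain ⟨m, rfl⟩ := hev
        rw [conj_pow, ← pow_mul, show 2 * m * 4 = 8 * m by ring, pow_mul,
          show σ ^ 8 = 1 by rw [← (show orderOf σ = 8 from C.dih.ord)]; exact pow_orderOf_eq_one σ, one_pow, mul_one,
          mul_inv_cancel]
    · rw [hpiece i hev, afn_rot C.dih (by omega), zero_mul]
  have h5 := hgr A hAcl hzero
  -- the piece of index 5 is not in the ideal
  have hx5 : ∀ c : CF, Commute (σ ^ 5) (c : H) := fun c => (hcs c).pow_left 5
  have hi5 : ∀ c : CF, IsIntegral ℤ ((ξ₀ : H → ℂ) (σ ^ 5 * (c : H))) := fun c =>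
    Char.IsChar.isIntegral (Char.IsIrr.isCharacter ξ₀.2) _
  obtain ⟨y, hy, hy0⟩ := exists_ev_regCut (M := M) (p := 2) ξ
    (θ := fun c : CF => (ξ₀ : H → ℂ) (σ ^ 5 * (c : H))) (fun c d => by
      simp only [Subgroup.coe_mul, Subgroup.coe_inv]
      rw [show σ ^ 5 * ((d : H) * c * (d : H)⁻¹) = (d : H) * (σ ^ 5 * c) * (d : H)⁻¹ by
        simp only [← mul_assoc, (hx5 d).eq]]
      exact Char.IsIrr.isClassFunction ξ₀.2 _ _) hi5
    (omegaBar_translate_ne_zero hM (isInducedBlock_of_pairOf hM hpair) C.loc.mem C.loc.height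
      ⟨3, by rw [orderOf_pow, show orderOf σ = 8 from C.dih.ord]; norm_num⟩ hx5 hξ)
  rw [hpiece 5 (by norm_num), afn_five C.dih, one_mul, ← hy] at h5
  -- the piece of index 2 of the square is in the ideal
  have hmem2 : MemLocalIdeal M (piece ξ s (conv A A) 2) := by
    refine ev_memLocalIdeal ξ (fun c d => ?_) fun c => ?_
    · have hod : orderOf (d * c * d⁻¹) = orderOf c := MulEquiv.orderOf_eq (MulAut.conj d) c
      have hs2 : Commute (s ^ 2) d := (Commute.pow_right (hc8 d) 2).symm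
      simp only [hod]
      rw [show s ^ 2 * (d * c * d⁻¹) = d * (s ^ 2 * c) * d⁻¹ by
        simp only [← mul_assoc, hs2.eq], isClassFunction_conv hAcl hAcl]
    split_ifs with hco
    · exact memLocalIdeal_zero
    set g : G := ((σ ^ 2 * (c : H) : H) : G) with hg'
    have hval : MemLocalIdeal M (conv Y Y g) := by
      rw [hY, hg', C.conv_afn_apply rfl hN0 hf (by rwa [Subgroup.orderOf_coe]) (hcs c)]
      exact memLocalIdeal_mul hK
        (mem_localRing_of_isIntegral (Char.IsChar.isIntegral (Char.IsIrr.isCharacter ξ₀.2) _))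
    have hug : Commute (σ : G) g := by
      have := (((Commute.refl σ).pow_right 2).mul_right (hcs c)).map H.subtype
      simpa [hg'] using this
    have hdiff := sum_sub_sum_commute hM (u := (σ : G))
      ⟨3, by rw [Subgroup.orderOf_coe, show orderOf σ = 8 from C.dih.ord]; norm_num⟩
      (f := fun a => Y a * Y (a⁻¹ * g))
      (fun a => mul_mem (C.indFun_afn_mem rfl a) (C.indFun_afn_mem rfl _)) fun a => by
        show Y ((σ : G) * a * (σ : G)⁻¹) * Y (((σ : G) * a * (σ : G)⁻¹)⁻¹ * g) = _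
        rw [hYcl, show ((σ : G) * a * (σ : G)⁻¹)⁻¹ * g = (σ : G) * (a⁻¹ * g) * (σ : G)⁻¹ by
          rw [mul_inv_rev, mul_inv_rev, inv_inv, mul_assoc, mul_assoc, mul_assoc, mul_assoc,
            hug.inv_left.eq], hYcl]
    have hfix : ∑ a ∈ Finset.univ.filter (fun a => Commute (σ : G) a), Y a * Y (a⁻¹ * g) =
        conv A A (s ^ 2 * c) := by
      refine (Finset.sum_bij (fun (a : CF) _ => ((a : H) : G)) (fun a _ => ?_) (fun a _ a' _ e => ?_)
        (fun a ha => ?_) fun a _ => ?_).symm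
      · exact Finset.mem_filter.2 ⟨Finset.mem_univ _, (hcs a).map H.subtype⟩
      · exact Subtype.ext (Subtype.ext e)
      · have hau : Commute (σ : G) a := (Finset.mem_filter.1 ha).2
        have haH : a ∈ H := C.mem_of_commute (by
          rw [SubgroupClass.coe_pow]; exact (hau.pow_left 4).symm)
        refine ⟨⟨⟨a, haH⟩, Subgroup.mem_centralizer_iff.2 fun z hz => ?_⟩, Finset.mem_univ _, rfl⟩
        obtain ⟨n, rfl⟩ := Subgroup.mem_zpowers_iff.1 hz
        exact Subtype.ext (by simpa using (hau.zpow_left n).eq)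
      · show A a * A (a⁻¹ * (s ^ 2 * c)) = _
        simp [hA, hs, hg']
    rw [← hfix]
    have := memLocalIdeal_sub hval hdiff
    simp only [conv, sub_sub_cancel] at this
    exact this
  rw [h5] at hmem2
  refine hy0 ?_
  have := resHom_eq_zero hmem2
  rw [show (⟨(y : ℂ) ^ 2, _⟩ : localRing M) = y * y from Subtype.ext (pow_two _), map_mul,
    mul_self_eq_zero] at this
  exact this

end CfsgLib.Blocks.DihedralDefect
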