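import Cfsg.Agent.Lib.Char.Basic
import Mathlib.GroupTheory.SpecificGroups.Dihedral
import Mathlib.RingTheory.RootsOfUnity.PrimitiveRoots
import Mathlib.GroupTheory.SpecificGroups.Cyclic
import Mathlib.GroupTheory.PGroup
import Mathlib.RingTheory.RootsOfUnity.Complex

/-!
# Dihedral 2-subgroups and their rotation functions

The functions `dlt l j` on a dihedral group: on a rotation `x` the value is
`2 - l x ^ j - l x ^ (-j)`, and they vanish at the reflections.
-/

set_option autoImplicit false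

namespace CfsgLib.Blocks.DihedralDefect

open Cfsg
open scoped Classical ComplexConjugate

variable {K : Type*} [Group K]

/-- A dihedral subgroup with rotation `σ`, reflection `τ` and a faithful character of `⟨σ⟩`. -/
structure Dih (D : Subgroup K) (σ τ : K) (q : ℕ) (l : Subgroup.zpowers σ →* ℂˣ) : Prop where
  two_le : 2 ≤ q
  pow_two' : ∃ e, q = 2 ^ e
  card : Nat.card D = 4 * q
  ord : orderOf σ = 2 * q
  memσ : σ ∈ D
  memτ : τ ∈ D
  τ_sq : τ * τ = 1
  rel : τ * σ * τ⁻¹ = σ⁻¹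
  notMem : τ ∉ Subgroup.zpowers σ
  elt : ∀ g ∈ D, ∃ i : ℤ, g = σ ^ i ∨ g = σ ^ i * τ
  prim : IsPrimitiveRoot ((l ⟨σ, Subgroup.mem_zpowers σ⟩ : ℂˣ) : ℂ) (2 * q)

/-- A dihedral subgroup in coordinates. -/
theorem exists_dih (D : Subgroup K) {q : ℕ} (hq : 2 ≤ q) (he : ∃ e, q = 2 ^ e)
    (eD : D ≃* DihedralGroup (2 * q)) :
    ∃ (σ τ : K) (l : Subgroup.zpowers σ →* ℂˣ), Dih D σ τ q l := by
  haveI : NeZero (2 * q) := ⟨by omega⟩
  set σP : D := eD.symm (DihedralGroup.r 1) with hσP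
  set τP : D := eD.symm (DihedralGroup.sr 0) with hτP
  have hpow : ∀ i : ℤ, eD (σP ^ i) = DihedralGroup.r (i : ZMod (2 * q)) := fun i => by
    rw [map_zpow, hσP, MulEquiv.apply_symm_apply, DihedralGroup.r_one_zpow]
  have hord : orderOf (σP : K) = 2 * q := by
    rw [Subgroup.orderOf_coe, hσP, MulEquiv.orderOf_eq eD.symm, DihedralGroup.orderOf_r_one]
  obtain ⟨g, hg⟩ : ∃ g : ℂ, IsPrimitiveRoot g (2 * q) :=
    ⟨_, Complex.isPrimitiveRoot_exp _ (by omega)⟩
  set ζu : ℂˣ := (hg.isUnit (by omega)).unit with hζu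
  have hζo : orderOf ζu = 2 * q := by
    rw [← orderOf_units, hζu, IsUnit.unit_spec]
    exact hg.eq_orderOf.symm
  have hgen : ∀ x : Subgroup.zpowers (σP : K),
      x ∈ Subgroup.zpowers (⟨(σP : K), Subgroup.mem_zpowers _⟩ : Subgroup.zpowers (σP : K)) :=
    fun x => by
      obtain ⟨i, hi⟩ := Subgroup.mem_zpowers_iff.1 x.2
      exact Subgroup.mem_zpowers_iff.2 ⟨i, Subtype.ext (by simpa using hi)⟩
  let l : Subgroup.zpowers (σP : K) →* ℂˣ := monoidHomOfForallMemZpowers hgen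
    (by rw [hζo, Subgroup.orderOf_mk, hord] : orderOf ζu ∣ orderOf
      (⟨(σP : K), Subgroup.mem_zpowers _⟩ : Subgroup.zpowers (σP : K)))
  refine ⟨(σP : K), (τP : K), l, ⟨hq, he, ?_, hord, σP.2, τP.2, ?_, ?_, ?_, ?_, ?_⟩⟩
  · rw [Nat.card_congr eD.toEquiv, DihedralGroup.nat_card]
    ring
  · rw [← Subgroup.coe_mul, hτP, ← map_mul, DihedralGroup.sr_mul_self, map_one, Subgroup.coe_one]
  · have h1 : τP * σP * τP⁻¹ = σP⁻¹ := eD.injective (by
      rw [map_mul, map_mul, map_inv, map_inv, hσP, hτP, MulEquiv.apply_symm_apply,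
        MulEquiv.apply_symm_apply]
      simp)
    exact congrArg Subtype.val h1
  · intro hmem
    obtain ⟨i, hi⟩ := Subgroup.mem_zpowers_iff.1 hmem
    have h1 : σP ^ i = τP := Subtype.ext (by rw [SubgroupClass.coe_zpow, hi])
    have h2 := congrArg eD h1
    rw [hpow, hτP, MulEquiv.apply_symm_apply] at h2
    cases h2
  · intro x hx
    rcases h : eD ⟨x, hx⟩ with i | i
    · obtain ⟨k, rfl⟩ := ZMod.intCast_surjective i
      refine ⟨k, Or.inl ?_⟩
      have : (⟨x, hx⟩ : D) = σP ^ k := eD.injective (by rw [h, hpow])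
      exact congrArg Subtype.val this
    · obtain ⟨k, rfl⟩ := ZMod.intCast_surjective i
      refine ⟨-k, Or.inr ?_⟩
      have : (⟨x, hx⟩ : D) = σP ^ (-k) * τP := eD.injective (by
        rw [map_mul, h, hpow, hτP, MulEquiv.apply_symm_apply, DihedralGroup.r_mul_sr]
        simp)
      have h2 := congrArg Subtype.val this
      simpa using h2
  · rw [show l ⟨(σP : K), Subgroup.mem_zpowers _⟩ = ζu from
      monoidHomOfForallMemZpowers_apply_gen hgen _, hζu, IsUnit.unit_spec]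
    exact hg

variable {D : Subgroup K} {σ τ : K} {q : ℕ} {l : Subgroup.zpowers σ →* ℂˣ} (h : Dih D σ τ q l)
include h

/-- The same data inside a subgroup containing `D`. -/
theorem Dih.subgroupOf {H : Subgroup K} (hDH : D ≤ H) :
    ∃ l' : Subgroup.zpowers (⟨σ, hDH h.memσ⟩ : H) →* ℂˣ,
      Dih (D.subgroupOf H) ⟨σ, hDH h.memσ⟩ ⟨τ, hDH h.memτ⟩ q l' := by
  set s : H := ⟨σ, hDH h.memσ⟩ with hs
  have hval : ∀ i : ℤ, ((s ^ i : H) : K) = σ ^ i := fun i => by rw [SubgroupClass.coe_zpow]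
  let m : Subgroup.zpowers s →* Subgroup.zpowers σ :=
    (H.subtype.comp (Subgroup.zpowers s).subtype).codRestrict (Subgroup.zpowers σ) fun x => by
      obtain ⟨i, hi⟩ := Subgroup.mem_zpowers_iff.1 x.2
      exact ⟨i, by simp [← hi, hs]⟩
  refine ⟨l.comp m, ⟨h.two_le, h.pow_two', ?_, ?_, h.memσ, h.memτ, Subtype.ext h.τ_sq,
    Subtype.ext h.rel, fun hm => ?_, fun g hg => ?_, ?_⟩⟩
  · rw [Nat.card_congr (Subgroup.subgroupOfEquivOfLe hDH).toEquiv, h.card]
  · rw [hs, Subgroup.orderOf_mk, h.ord]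
  · obtain ⟨i, hi⟩ := Subgroup.mem_zpowers_iff.1 hm
    exact h.notMem ⟨i, by
      show σ ^ i = τ
      rw [← hval, hi]⟩
  · obtain ⟨i, hi | hi⟩ := h.elt (g : K) hg
    · exact ⟨i, Or.inl (Subtype.ext (by rw [hval, hi]))⟩
    · exact ⟨i, Or.inr (Subtype.ext (by rw [Subgroup.coe_mul, hval, hi]))⟩
  · exact h.prim

theorem Dih.zpowers_le : Subgroup.zpowers σ ≤ D := Subgroup.zpowers_le.2 h.memσ

theorem Dih.z_mem : σ ^ q ∈ D := D.pow_mem h.memσ q

theorem Dih.z_ord : orderOf (σ ^ q) = 2 := by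
  have := h.two_le
  rw [orderOf_pow_of_dvd (by omega) (by rw [h.ord]; exact dvd_mul_left q 2), h.ord,
    Nat.mul_div_cancel _ (by omega)]

theorem Dih.z_sq : σ ^ q * σ ^ q = 1 := by rw [← pow_two, ← h.z_ord, pow_orderOf_eq_one]

theorem Dih.z_ne : σ ^ q ≠ 1 := fun e => by
  have := h.z_ord
  rw [e, orderOf_one] at this
  omega

theorem Dih.finite : Finite D :=
  Nat.finite_of_card_ne_zero (by rw [h.card]; have := h.two_le; omega)

theorem Dih.isPGroup : IsPGroup 2 D := by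
  obtain ⟨e, he⟩ := h.pow_two'
  exact IsPGroup.of_card (n := e + 2) (by rw [h.card, he]; ring)

theorem Dih.conj_zpow (i : ℤ) : τ * σ ^ i * τ⁻¹ = σ ^ (-i) := by
  rw [← _root_.conj_zpow, h.rel, inv_zpow, zpow_neg]

/-- The elements outside `⟨σ⟩` have square one. -/
theorem Dih.sq_eq_one {g : K} (hg : g ∈ D) (hgσ : g ∉ Subgroup.zpowers σ) : g * g = 1 := by
  obtain ⟨i, rfl | rfl⟩ := h.elt g hg
  · exact absurd ⟨i, rfl⟩ hgσ
  · have e := h.conj_zpow i
    rw [inv_eq_of_mul_eq_one_right h.τ_sq] at e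
    calc σ ^ i * τ * (σ ^ i * τ) = σ ^ i * (τ * σ ^ i * τ) := by group
      _ = 1 := by rw [e, ← zpow_add, add_neg_cancel, zpow_zero]

/-- A square root of one among the rotations is `1` or the central involution. -/
theorem Dih.eq_one_or_z {x : K} (hx : x ∈ Subgroup.zpowers σ) (hx2 : x * x = 1) :
    x = 1 ∨ x = σ ^ q := by
  obtain ⟨i, rfl⟩ := Subgroup.mem_zpowers_iff.1 hx
  rw [← zpow_add, ← orderOf_dvd_iff_zpow_eq_one, h.ord] at hx2
  push_cast at hx2
  obtain ⟨k, hk⟩ := hx2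
  have hi : i = q * k := by linarith
  rcases Int.even_or_odd k with ⟨j, hj⟩ | ⟨j, hj⟩
  · left
    rw [← orderOf_dvd_iff_zpow_eq_one, h.ord]
    exact ⟨j, by rw [hi, hj]; push_cast; ring⟩
  · right
    rw [hi, hj, show (q : ℤ) * (2 * j + 1) = ((2 * q : ℕ) : ℤ) * j + (q : ℤ) by push_cast; ring,
      zpow_add, zpow_mul, zpow_natCast, ← h.ord, pow_orderOf_eq_one, one_zpow, one_mul, zpow_natCast]

/-- Every nontrivial rotation has the central involution as a power. -/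
theorem Dih.exists_pow_eq_z {x : K} (hx : x ∈ Subgroup.zpowers σ) (hx1 : x ≠ 1) :
    ∃ m : ℕ, x ^ m = σ ^ q := by
  obtain ⟨e, he⟩ := h.pow_two'
  have hd : orderOf x ∣ 2 ^ (e + 1) := by
    rw [pow_succ', ← he, ← h.ord]
    exact orderOf_dvd_of_mem_zpowers hx
  obtain ⟨k, -, hk⟩ := (Nat.dvd_prime_pow Nat.prime_two).1 hd
  rcases k with _ | k
  · exact absurd (orderOf_eq_one_iff.1 (by simpa using hk)) hx1
  refine ⟨2 ^ k, (h.eq_one_or_z (pow_mem hx _) ?_).resolve_left ?_⟩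
  · rw [← pow_add, ← two_mul, ← pow_succ', ← hk, pow_orderOf_eq_one]
  · intro e'
    have h3 : 2 ^ (k + 1) ≤ 2 ^ k := hk ▸ Nat.le_of_dvd (pow_pos two_pos k)
      (orderOf_dvd_of_pow_eq_one e')
    rw [pow_succ] at h3
    have := Nat.two_pow_pos k
    omega

theorem Dih.z_commute {g : K} (hg : g ∈ D) : Commute (σ ^ q) g := by
  have h1 : Commute (σ ^ q) τ := by
    have e := h.conj_zpow q
    rw [zpow_natCast, zpow_neg, zpow_natCast, inv_eq_of_mul_eq_one_right h.z_sq] at e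
    exact (mul_inv_eq_iff_eq_mul.1 e).symm
  obtain ⟨i, rfl | rfl⟩ := h.elt g hg
  · exact ((Commute.refl σ).pow_left q).zpow_right i
  · exact (((Commute.refl σ).pow_left q).zpow_right i).mul_right h1

/-- The elements commuting with `σ` are the rotations. -/
theorem Dih.mem_zpowers_of_commute {g : K} (hg : g ∈ D) (hc : Commute g σ) :
    g ∈ Subgroup.zpowers σ := by
  obtain ⟨i, rfl | rfl⟩ := h.elt g hg
  · exact ⟨i, rfl⟩
  exfalso
  have h2 := hc.eq
  rw [mul_assoc, show τ * σ = σ⁻¹ * τ by rw [← h.rel]; group, ← mul_assoc, ← mul_assoc] at h2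
  have h3 : σ ^ i * σ⁻¹ = σ * σ ^ i := mul_right_cancel h2
  have h4 : σ ^ (i - 1) = σ ^ (i + 1) := by
    rw [zpow_sub, zpow_one, h3, zpow_add, zpow_one]
    exact ((Commute.refl σ).zpow_right i).eq
  have h5 := orderOf_dvd_iff_zpow_eq_one.2 (show σ ^ ((i + 1) - (i - 1)) = 1 by
    rw [zpow_sub, h4, mul_inv_cancel])
  rw [h.ord] at h5
  have := h.two_le
  have h6 := Int.le_of_dvd (by omega) h5
  push_cast at h6
  omega

/-- An automorphism of odd order of a subgroup of `D` that fixes the central involution is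
trivial. -/
theorem Dih.aut_eq_one {Q : Subgroup K} (hQ : Q ≤ D) {α : MulAut Q} {m : ℕ} (hm : Odd m)
    (hαm : α ^ m = 1) (hz : ∀ x : Q, (x : K) = σ ^ q → α x = x) : α = 1 := by
  have := h.finite
  have : Finite Q := Finite.of_injective _ (Subgroup.inclusion_injective hQ)
  -- squares of odd order maps
  have hodd : ∀ x : Q, α (α x) = x → α x = x := fun x hx => by
    obtain ⟨k, hk⟩ := hm
    have h2 : ∀ j : ℕ, (α ^ (2 * j)) x = x := fun j => by
      induction j with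
      | zero => simp
      | succ j ih => rw [mul_add, pow_add, MulAut.mul_apply, show (α ^ (2 * 1)) x = x by
          simpa [pow_two] using hx, ih]
    have h3 := congrArg (fun β : MulAut Q => β x) hαm
    simp only [hk, pow_succ', MulAut.mul_apply, h2, MulAut.one_apply] at h3
    exact h3
  have hpowx : ∀ x : Q, ∃ k, orderOf x = 2 ^ k := fun x => by
    obtain ⟨k, hk⟩ := IsPGroup.iff_orderOf.1 h.isPGroup ⟨(x : K), hQ x.2⟩
    exact ⟨k, by rw [← Subgroup.orderOf_coe, ← hk, Subgroup.orderOf_mk]⟩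
  have hmap : ∀ x : Q, (x : K) ∈ Subgroup.zpowers σ → ((α x : Q) : K) ∈ Subgroup.zpowers σ := by
    intro x hx
    by_contra hn
    have h1 : (α x) * (α x) = 1 := Subtype.ext (h.sq_eq_one (hQ (α x).2) hn)
    rw [← map_mul, map_eq_one_iff α α.injective] at h1
    rcases h.eq_one_or_z hx (congrArg Subtype.val h1) with e | e
    · rw [show x = 1 from Subtype.ext e, map_one] at hn
      exact hn (one_mem _)
    · rw [hz x e, e] at hn
      exact hn (Subgroup.npow_mem_zpowers σ q)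
  have hR : ∀ k : ℕ, ∀ x : Q, (x : K) ∈ Subgroup.zpowers σ → orderOf x ∣ 2 ^ k → α x = x := by
    intro k
    induction k with
    | zero =>
      intro x _ hx
      rw [show x = 1 from orderOf_eq_one_iff.1 (Nat.dvd_one.1 (by simpa using hx)), map_one]
    | succ k ih =>
      intro x hx hk
      have h2 : orderOf (x * x) ∣ 2 ^ k := by
        refine orderOf_dvd_of_pow_eq_one ?_
        rw [← pow_two, ← pow_mul, ← pow_succ']
        exact orderOf_dvd_iff_pow_eq_one.1 hk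
      have hfix := ih (x * x) (mul_mem hx hx) h2
      rw [map_mul] at hfix
      have hc : Commute ((α x : Q) : K) (x : K) := by
        obtain ⟨i, hi⟩ := Subgroup.mem_zpowers_iff.1 (hmap x hx)
        obtain ⟨j, hj⟩ := Subgroup.mem_zpowers_iff.1 hx
        rw [← hi, ← hj]
        exact Commute.zpow_zpow_self σ i j
      set r : Q := x⁻¹ * α x with hr
      have hrσ : (r : K) ∈ Subgroup.zpowers σ := mul_mem (inv_mem hx) (hmap x hx)
      have hr2 : (r : K) * r = 1 := by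
        rw [hr, Subgroup.coe_mul, Subgroup.coe_inv]
        calc (x : K)⁻¹ * (α x : Q) * ((x : K)⁻¹ * (α x : Q))
            = ((x : K)⁻¹ * (x : K)⁻¹) * (((α x : Q) : K) * (α x : Q)) := by
              rw [mul_assoc, ← mul_assoc ((α x : Q) : K), (hc.inv_right).eq]
              group
          _ = 1 := by
              rw [← Subgroup.coe_mul, hfix, Subgroup.coe_mul]
              group
      have hrfix : α r = r := by
        rcases h.eq_one_or_z hrσ hr2 with e | e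
        · rw [show r = 1 from Subtype.ext e, map_one]
        · exact hz r e
      refine hodd x ?_
      rw [show α x = x * r by rw [hr, mul_inv_cancel_left], map_mul, hrfix,
        show α x = x * r by rw [hr, mul_inv_cancel_left], mul_assoc,
        show r * r = 1 from Subtype.ext hr2, mul_one]
  have hrot : ∀ x : Q, (x : K) ∈ Subgroup.zpowers σ → α x = x := fun x hx => by
    obtain ⟨k, hk⟩ := hpowx x
    exact hR k x hx hk.dvd
  have hout : ∀ x : Q, (x : K) ∉ Subgroup.zpowers σ → ((α x : Q) : K) ∉ Subgroup.zpowers σ :=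
    fun x hx hn => hx (by rwa [α.injective (hrot _ hn)] at hn)
  refine MulEquiv.ext fun x => ?_
  rw [MulAut.one_apply]
  by_cases hx : (x : K) ∈ Subgroup.zpowers σ
  · exact hrot x hx
  have hr : ((x⁻¹ * α x : Q) : K) ∈ Subgroup.zpowers σ := by
    obtain ⟨i, hi | hi⟩ := h.elt x (hQ x.2)
    · exact absurd ⟨i, hi.symm⟩ hx
    obtain ⟨j, hj | hj⟩ := h.elt _ (hQ (α x).2)
    · exact absurd ⟨j, hj.symm⟩ (hout x hx)
    refine ⟨i - j, ?_⟩
    show σ ^ (i - j) = _
    rw [Subgroup.coe_mul, Subgroup.coe_inv, hi, hj, mul_inv_rev]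
    calc σ ^ (i - j) = τ * σ ^ (-(i - j)) * τ⁻¹ := by rw [h.conj_zpow, neg_neg]
      _ = τ⁻¹ * (σ ^ i)⁻¹ * (σ ^ j * τ) := by
        rw [inv_eq_of_mul_eq_one_right h.τ_sq]
        group
  have hrfix := hrot _ hr
  have hpow : ∀ n : ℕ, (α ^ n) x = x * (x⁻¹ * α x) ^ n := fun n => by
    induction n with
    | zero => simp
    | succ n ih =>
      rw [pow_succ', MulAut.mul_apply, ih, map_mul, map_pow, hrfix,
        pow_succ' (x⁻¹ * α x) n, ← mul_assoc, mul_inv_cancel_left]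
  have h1 := hpow m
  rw [hαm, MulAut.one_apply, left_eq_mul] at h1
  obtain ⟨k, hk⟩ := hpowx (x⁻¹ * α x)
  have hd := orderOf_dvd_of_pow_eq_one h1
  rw [hk] at hd
  rcases k with _ | k
  · rw [pow_zero, orderOf_eq_one_iff, inv_mul_eq_one] at hk
    exact hk.symm
  · obtain ⟨b, hb⟩ := hm
    have : 2 ∣ m := (dvd_pow_self 2 k.succ_ne_zero).trans hd
    omega

/-! ### The rotation functions -/

omit h in
/-- The rotation function. -/
noncomputable def dlt (l : Subgroup.zpowers σ →* ℂˣ) (j : ℕ) (g : K) : ℂ :=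
  if hg : g ∈ Subgroup.zpowers σ then
    2 - ((l ⟨g, hg⟩ : ℂˣ) : ℂ) ^ j - (((l ⟨g, hg⟩ : ℂˣ) : ℂ)⁻¹) ^ j
  else 0

omit h in
theorem dlt_coe (l : Subgroup.zpowers σ →* ℂˣ) (j : ℕ) (x : Subgroup.zpowers σ) :
    dlt l j (x : K) = 2 - ((l x : ℂˣ) : ℂ) ^ j - (((l x : ℂˣ) : ℂ)⁻¹) ^ j := by
  rw [dlt, dif_pos x.2]

omit h in
theorem dlt_of_notMem {g : K} (hg : g ∉ Subgroup.zpowers σ) (j : ℕ) : dlt l j g = 0 :=
  dif_neg hg

omit h in
theorem dlt_one (j : ℕ) : dlt l j (1 : K) = 0 := by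
  have := dlt_coe l j (1 : Subgroup.zpowers σ)
  rw [Subgroup.coe_one] at this
  rw [this, map_one]
  norm_num

omit h in
theorem dlt_zero (g : K) : dlt l 0 g = 0 := by
  by_cases hg : g ∈ Subgroup.zpowers σ
  · rw [show g = ((⟨g, hg⟩ : Subgroup.zpowers σ) : K) from rfl, dlt_coe]
    norm_num
  · exact dlt_of_notMem hg 0

theorem Dih.l_pow (x : Subgroup.zpowers σ) : ((l x : ℂˣ) : ℂ) ^ (2 * q) = 1 := by
  have h1 : x ^ (2 * q) = 1 := by
    refine orderOf_dvd_iff_pow_eq_one.1 ?_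
    rw [← Subgroup.orderOf_coe, ← h.ord]
    exact orderOf_dvd_of_mem_zpowers x.2
  rw [← Units.val_pow_eq_pow_val, ← map_pow, h1, map_one, Units.val_one]

theorem Dih.l_inj {x : Subgroup.zpowers σ} (hx : ((l x : ℂˣ) : ℂ) = 1) : x = 1 := by
  obtain ⟨i, hi⟩ := Subgroup.mem_zpowers_iff.1 x.2
  have hxe : x = ⟨σ, Subgroup.mem_zpowers σ⟩ ^ i := Subtype.ext (by
    rw [SubgroupClass.coe_zpow, hi])
  rw [hxe, map_zpow, Units.val_zpow_eq_zpow_val, h.prim.zpow_eq_one_iff_dvd] at hx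
  refine Subtype.ext ?_
  rw [Subgroup.coe_one, ← hi, ← orderOf_dvd_iff_zpow_eq_one, h.ord]
  exact hx

theorem Dih.l_z : ((l ⟨σ ^ q, Subgroup.npow_mem_zpowers σ q⟩ : ℂˣ) : ℂ) = -1 := by
  rw [show (⟨σ ^ q, Subgroup.npow_mem_zpowers σ q⟩ : Subgroup.zpowers σ) =
      ⟨σ, Subgroup.mem_zpowers σ⟩ ^ q from rfl, map_pow, Units.val_pow_eq_pow_val]
  exact (h.prim.pow (by have := h.two_le; omega) (mul_comm 2 q)).eq_neg_one_of_two_right

theorem Dih.conj_l (x : Subgroup.zpowers σ) :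
    conj ((l x : ℂˣ) : ℂ) = ((l x : ℂˣ) : ℂ)⁻¹ := by
  have h1 : ‖((l x : ℂˣ) : ℂ)‖ = 1 :=
    Complex.norm_eq_one_of_pow_eq_one (h.l_pow x) (by have := h.two_le; omega)
  exact (Complex.inv_eq_conj h1).symm

theorem Dih.conj_dlt (j : ℕ) (g : K) : conj (dlt l j g) = dlt l j g := by
  by_cases hg : g ∈ Subgroup.zpowers σ
  · rw [show g = ((⟨g, hg⟩ : Subgroup.zpowers σ) : K) from rfl, dlt_coe]
    simp only [map_sub, map_ofNat, map_pow, map_inv₀, h.conj_l, inv_inv]
    ring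
  · rw [dlt_of_notMem hg, map_zero]

theorem Dih.dlt_symm {j : ℕ} (hj : j ≤ 2 * q) (g : K) : dlt l (2 * q - j) g = dlt l j g := by
  by_cases hg : g ∈ Subgroup.zpowers σ
  · rw [show g = ((⟨g, hg⟩ : Subgroup.zpowers σ) : K) from rfl, dlt_coe, dlt_coe]
    have e := h.l_pow ⟨g, hg⟩
    have e0 : ((l ⟨g, hg⟩ : ℂˣ) : ℂ) ≠ 0 := Units.ne_zero _
    have e' : (((l ⟨g, hg⟩ : ℂˣ) : ℂ)⁻¹) ^ (2 * q) = 1 := by rw [inv_pow, e, inv_one]
    rw [pow_sub₀ _ e0 hj, pow_sub₀ _ (inv_ne_zero e0) hj, e, e', one_mul, one_mul, ← inv_pow,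
      ← inv_pow, inv_inv]
    ring
  · rw [dlt_of_notMem hg, dlt_of_notMem hg]

/-- The rotation functions are invariant under conjugation in `D`. -/
theorem Dih.dlt_conj {g y : K} (hy : y ∈ D) (j : ℕ) : dlt l j (y * g * y⁻¹) = dlt l j g := by
  obtain ⟨i, rfl | rfl⟩ := h.elt y hy
  · by_cases hg : g ∈ Subgroup.zpowers σ
    · obtain ⟨k, rfl⟩ := Subgroup.mem_zpowers_iff.1 hg
      rw [(Commute.zpow_zpow_self σ i k).eq, mul_inv_cancel_right]
    · rw [dlt_of_notMem hg, dlt_of_notMem]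
      refine fun hc => hg ?_
      have := mul_mem (mul_mem (inv_mem (Subgroup.zpow_mem_zpowers σ i)) hc)
        (Subgroup.zpow_mem_zpowers σ i)
      simpa [mul_assoc] using this
  · by_cases hg : g ∈ Subgroup.zpowers σ
    · obtain ⟨k, rfl⟩ := Subgroup.mem_zpowers_iff.1 hg
      have e : σ ^ i * τ * σ ^ k * (σ ^ i * τ)⁻¹ = σ ^ (-k) := by
        rw [show σ ^ i * τ * σ ^ k * (σ ^ i * τ)⁻¹ = σ ^ i * (τ * σ ^ k * τ⁻¹) * (σ ^ i)⁻¹ by group,
          h.conj_zpow]
        group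
      set x : Subgroup.zpowers σ := ⟨σ ^ k, Subgroup.zpow_mem_zpowers σ k⟩ with hx
      rw [e, show σ ^ (-k) = ((x⁻¹ : Subgroup.zpowers σ) : K) by simp [hx],
        show σ ^ k = (x : K) from rfl, dlt_coe, dlt_coe, map_inv, Units.val_inv_eq_inv_val, inv_inv]
      ring
    · rw [dlt_of_notMem hg, dlt_of_notMem]
      intro hc
      obtain ⟨k, hk⟩ := Subgroup.mem_zpowers_iff.1 hc
      refine hg ⟨-k, ?_⟩
      show σ ^ (-k) = g
      rw [show g = (σ ^ i * τ)⁻¹ * (σ ^ k) * (σ ^ i * τ) by rw [hk]; group,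
        show (σ ^ i * τ)⁻¹ * σ ^ k * (σ ^ i * τ) = τ⁻¹ * σ ^ k * τ by group,
        inv_eq_of_mul_eq_one_right h.τ_sq]
      rw [← h.conj_zpow, inv_eq_of_mul_eq_one_right h.τ_sq]

end CfsgLib.Blocks.DihedralDefect
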