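import Cfsg.Agent.Lib.Blocks.DihedralDefect.Induce
import Cfsg.Agent.Lib.Blocks.SubsectionHeight
import Mathlib.RingTheory.IntegralClosure.IntegrallyClosed

/-!
# Contributions of the central involution
-/

set_option autoImplicit false

namespace CfsgLib.Blocks.DihedralDefect

open Cfsg CfsgLib.Blocks CfsgLib.Char
open scoped Classical ComplexConjugate

variable {G : Type*} [Group G] [Fintype G] {M : Ideal AlgInt} [M.IsPrime] [Fact (Nat.Prime 2)]

theorem int_dvd_of_isIntegral {a : ℤ} {m : ℕ} (hm : m ≠ 0) {z : ℂ} (hz : IsIntegral ℤ z)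
    (h : (a : ℂ) = (m : ℂ) * z) : (m : ℤ) ∣ a := by
  have hq : IsIntegral ℤ ((a : ℚ) / (m : ℚ)) := by
    refine (isIntegral_algebraMap_iff (A := ℚ) (B := ℂ) (algebraMap ℚ ℂ).injective).1 ?_
    rwa [map_div₀, map_intCast, map_natCast, h, mul_div_cancel_left₀ _ (Nat.cast_ne_zero.2 hm)]
  obtain ⟨k, hk⟩ := IsIntegrallyClosed.isIntegral_iff.1 hq
  refine ⟨k, ?_⟩
  have hk' : (k : ℚ) = (a : ℚ) / (m : ℚ) := by simpa using hk
  rw [eq_div_iff (Nat.cast_ne_zero.2 hm)] at hk'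
  have : ((m * k : ℤ) : ℚ) = (a : ℚ) := by push_cast; rw [← hk']; ring
  exact_mod_cast this.symm

/-- A subsection of full defect with one Brauer character: integral parts with square sum the
order of the defect group. -/
theorem subsection_shape (hM : IsPModular 2 M) {H : Subgroup G} {z : G}
    (hz : ∃ k : ℕ, orderOf z = 2 ^ k) (hH : H = Subgroup.centralizer ({z} : Set G))
    {B : Set (IrrCharacter G)} {b : Set (IrrCharacter H)} (hind : IsInducedBlock M H b B)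
    (hd : blockDefect 2 b = blockDefect 2 B) (hrank : blockRank 2 b = 1)
    (κ : IrrCharacter G → ℤ) (ξ₀ : H → ℂ)
    (hpart : ∀ χ ∈ B, ∀ w : H, ¬ 2 ∣ orderOf w →
      blockPart b (fun c : H => (χ : G → ℂ) (z * (c : G))) w = (κ χ : ℂ) * ξ₀ w)
    (hsum : ∑ χ ∈ (Set.toFinite B).toFinset, κ χ ^ 2 = ((2 ^ blockDefect 2 B : ℕ) : ℤ)) :
    (∀ χ ∈ B, κ χ ≠ 0) ∧ (∀ χ ∈ B, blockHeight 2 B (χ : G → ℂ) = 0 → Odd (κ χ)) ∧
      ∀ χ ∈ B, ∀ ψ ∈ B, (2 : ℤ) ^ blockHeight 2 B (χ : G → ℂ) ∣ κ ψ * κ χ := by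
  subst hH
  set d := blockDefect 2 B with hddef
  set S : ℂ := (Nat.card (Subgroup.centralizer ({z} : Set G)) : ℂ)⁻¹ *
    ∑ w ∈ Finset.univ.filter (fun w : Subgroup.centralizer ({z} : Set G) => ¬ 2 ∣ orderOf w), ξ₀ w * conj (ξ₀ w) with hS
  have hcontr : ∀ χ ∈ B, ∀ ψ ∈ B, contribution 2 z b ψ χ = (κ ψ : ℂ) * (κ χ : ℂ) * S := by
    intro χ hχ ψ hψ
    rw [contribution, hS, mul_left_comm _ ((Nat.card (Subgroup.centralizer ({z} : Set G)) : ℂ)⁻¹), Finset.mul_sum _ _ ((κ ψ : ℂ) * _)]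
    congr 1
    refine Finset.sum_congr rfl fun w hw => ?_
    rw [hpart ψ hψ w (Finset.mem_filter.1 hw).2, hpart χ hχ w (Finset.mem_filter.1 hw).2,
      map_mul, map_intCast]
    ring
  have hS2 : ((2 : ℂ) ^ d) * S = 1 := by
    have h1 := sum_block_blockPart_norm hM hz hind
    rw [hrank, Nat.cast_one, mul_one, finsum_mem_eq_finite_toFinset_sum _ (Set.toFinite B),
      Finset.sum_congr rfl (g := fun χ : IrrCharacter G => ((κ χ : ℂ) ^ 2) *
        ∑ w ∈ Finset.univ.filter (fun w : Subgroup.centralizer ({z} : Set G) => ¬ 2 ∣ orderOf w), ξ₀ w * conj (ξ₀ w)) fun χ hχ => by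
          rw [Finset.mul_sum]
          refine Finset.sum_congr rfl fun w hw => ?_
          rw [hpart χ ((Set.Finite.mem_toFinset _).1 hχ) w (Finset.mem_filter.1 hw).2,
            map_mul, map_intCast]
          ring,
      ← Finset.sum_mul] at h1
    have h2 : ∑ χ ∈ (Set.toFinite B).toFinset, (κ χ : ℂ) ^ 2 = (2 : ℂ) ^ d := by
      have := congrArg (Int.cast : ℤ → ℂ) hsum
      push_cast at this
      exact this
    rw [h2] at h1
    rw [hS, mul_left_comm, h1, inv_mul_cancel₀ (Nat.cast_ne_zero.2 Nat.card_pos.ne')]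
  have hval : ∀ χ ∈ B, ∀ ψ ∈ B,
      (2 : ℂ) ^ d * contribution 2 z b ψ χ = ((κ ψ * κ χ : ℤ) : ℂ) := fun χ hχ ψ hψ => by
    rw [hcontr χ hχ ψ hψ]
    push_cast
    linear_combination ((κ ψ : ℂ) * (κ χ : ℂ)) * hS2
  refine ⟨fun χ hχ h0 => ?_, fun χ hχ hχ0 => ?_, fun χ hχ ψ hψ => ?_⟩
  · refine contribution_self_ne_zero hM hz hind hχ hd ?_
    rw [hcontr χ hχ χ hχ, h0]
    simp
  · obtain ⟨y, hy, hy0⟩ := exists_residue_ne_zero hM hz hind hd hχ hχ hχ0 hχ0
    rw [sum_transCoeff_mul_regCoeff hM (isInducedBlock_iff.1 hind).1, Nat.cast_ofNat,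
      hval χ hχ χ hχ] at hy
    rw [show y = ((κ χ * κ χ : ℤ) : localRing M) from Subtype.ext (by
      rw [hy]; exact (map_intCast (localRing M).subtype _).symm), map_intCast] at hy0
    have := charP_residueField hM
    by_contra hodd
    refine hy0 ((CharP.intCast_eq_zero_iff (Res M) 2 _).2 ?_)
    exact Dvd.dvd.mul_right (even_iff_two_dvd.1 (Int.not_odd_iff_even.1 hodd)) _
  · obtain ⟨y, hy, hy'⟩ := exists_contribution_eq hM hz hind hχ ψ
    rw [Nat.cast_ofNat, hval χ hχ ψ hψ] at hy'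
    have h := int_dvd_of_isIntegral (m := 2 ^ blockHeight 2 B (χ : G → ℂ))
      (pow_ne_zero _ two_ne_zero) hy (by rw [hy']; push_cast; ring)
    exact_mod_cast h

open CfsgLib.Pairs CfsgLib.Star

variable {H : Subgroup G} {B : Set (IrrCharacter G)}
  {b : Set (IrrCharacter H)} {D : Subgroup H} {σ τ : H} {q : ℕ} {l : Subgroup.zpowers σ →* ℂˣ}
  {e : Set (IrrCharacter (Subgroup.centralizer (D : Set H)))} {F : FusionSystem D}
  {ξ₀ : IrrCharacter H} {Φ : IrrCharacter D ≃ b} (C : Ctx M B b D σ τ q l e F ξ₀ Φ)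
  [Fintype (IrrCharacter D)]
include C

omit [Fintype (IrrCharacter D)] in
theorem Ctx.Φ_regular (η : IrrCharacter D) {w : H} (hw : ¬ 2 ∣ orderOf w) :
    ((Φ η : IrrCharacter H) : H → ℂ) w = (η : D → ℂ) 1 * (ξ₀ : H → ℂ) w := by
  rw [C.loc.formula, star_apply_regular C.loc.modular C.loc.hF C.loc.mem
    (isStableChar_extP C.loc.inn η) hw, ← Subgroup.coe_one D, extP_coe]

/-- The scalar by which the central involution acts on the block up to the defect group. -/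
theorem Ctx.Φ_z (η : IrrCharacter D) :
    ((Φ η : IrrCharacter H) : H → ℂ) (σ ^ q) =
      (η : D → ℂ) ⟨σ ^ q, C.dih.z_mem⟩ * (ξ₀ : H → ℂ) (σ ^ q) := by
  have e : (fun x : D => extP D (η : D → ℂ) (x : H)) = (η : D → ℂ) := funext (extP_coe D _)
  have h1 : ((Φ η : IrrCharacter H) : H → ℂ) = comb Φ (extP D (η : D → ℂ)) := by
    simp only [comb, e, classInner_irr, ite_smul, one_smul, zero_smul, Finset.sum_ite_eq,
      Finset.mem_univ, if_true]
  have h2 := C.loc.comb_apply_const (a := extP D (η : D → ℂ)) (u := σ ^ q) (s := 1)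
    (by rw [e]; exact Char.IsIrr.isClassFunction η.2) ⟨1, by rw [pow_one, C.dih.z_ord]⟩ (by simp)
    (Commute.one_right _) (v := (η : D → ℂ) ⟨σ ^ q, C.dih.z_mem⟩) fun x hx => ?_
  · rwa [mul_one, ← h1] at h2
  rw [← extP_coe D (η : D → ℂ) ⟨σ ^ q, C.dih.z_mem⟩]
  congr 1
  rw [← (C.z_central x).eq, mul_inv_cancel_right]

omit [Fintype (IrrCharacter D)] in
theorem Ctx.sign : ∃ ω : ℤ, (ω = 1 ∨ ω = -1) ∧
    (ξ₀ : H → ℂ) (σ ^ q) = (ω : ℂ) * (ξ₀ : H → ℂ) 1 := by
  have h := apply_central_mul ξ₀ (fun g => (C.z_central g).symm.eq) (σ ^ q)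
  rw [C.dih.z_sq] at h
  rcases mul_self_eq_mul_self_iff.1 h.symm with h | h
  · exact ⟨1, Or.inl rfl, by rw [h]; norm_num⟩
  · exact ⟨-1, Or.inr rfl, by rw [h]; norm_num⟩

omit [Fintype (IrrCharacter D)] in
theorem Ctx.blockRank_eq : blockRank 2 b = 1 := by
  have hb : pRegularPart 2 (ξ₀ : H → ℂ) ≠ 0 := fun e => by
    have := congrFun e 1
    rw [pRegularPart, if_pos (show IsPRegular 2 (1 : H) by simp [IsPRegular])] at this
    exact Char.IsIrr.apply_one_ne_zero ξ₀.2 this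
  rw [blockRank]
  refine le_antisymm ?_ ?_
  · refine le_trans (Submodule.finrank_mono (t := Submodule.span ℂ {pRegularPart 2 (ξ₀ : H → ℂ)})
      (Submodule.span_le.2 ?_)) (by rw [finrank_span_singleton hb])
    rintro _ ⟨ξ, hξ, rfl⟩
    obtain ⟨η, hη⟩ := Φ.surjective ⟨ξ, hξ⟩
    refine Submodule.mem_span_singleton.2 ⟨(η : D → ℂ) 1, funext fun w => ?_⟩
    have h1 : (ξ : H → ℂ) = ((Φ η : IrrCharacter H) : H → ℂ) := by rw [hη]
    simp only [Pi.smul_apply, smul_eq_mul, pRegularPart]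
    split_ifs with hw
    · rw [h1, C.Φ_regular η hw]
    · rw [mul_zero]
  · rw [← finrank_span_singleton (K := ℂ) hb]
    exact Submodule.finrank_mono (Submodule.span_mono
      (Set.singleton_subset_iff.2 ⟨ξ₀, C.loc.mem, rfl⟩))

end CfsgLib.Blocks.DihedralDefect
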