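import Cfsg.Agent.Lib.Blocks.Star.Theta
import Cfsg.Agent.Lib.Blocks.Star.Lift
import Cfsg.Agent.Lib.Blocks.FreeInertial.Trace

/-!
# The part in an induced block of a character outside the block

At an element `g` whose `p`-part has a power `z`, a character outside `B` has vanishing part in
a block of `C(z)` inducing `B`.
-/

set_option autoImplicit false

namespace CfsgLib.Blocks.DihedralDefect

open Cfsg MonoidAlgebra CfsgLib.Blocks CfsgLib.Pairs CfsgLib.Star CfsgLib.FreeInertial
open scoped Classical ComplexConjugate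

variable {G : Type*} [Group G] [Fintype G] {M : Ideal AlgInt} [M.IsPrime] {p : ℕ} [Fact p.Prime]

/-- Truncation of an idempotent to the centralizer of a `p`-group is idempotent. -/
theorem resElt_idem (hM : IsPModular p M) {Q H : Subgroup G}
    (hH : H = Subgroup.centralizer (Q : Set G)) (hQ : IsPGroup p Q)
    {a : MonoidAlgebra (Res M) G} (ha : IsCentralElt a) (ha2 : a * a = a) :
    resElt H a * resElt H a = resElt H a := by
  subst hH
  have := charP_residueField hM
  have e : resElt (Subgroup.centralizer (Q : Set G)) a = resC Q a := by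
    refine MonoidAlgebra.ext (Finsupp.ext fun c => ?_)
    rw [coeff_resElt, coeff_resC]
  rw [e, ← resC_mul hQ (InvUnder.of_isCentralElt _ ha) (InvUnder.of_isCentralElt _ ha), ha2]

theorem blockPart_restrict_eq_zero (hM : IsPModular p M) {H : Subgroup G} {z : G}
    (hz : ∃ k : ℕ, orderOf z = p ^ k)
    (hH : H = Subgroup.centralizer (Subgroup.zpowers z : Set G)) {b : Set (IrrCharacter H)}
    {B : Set (IrrCharacter G)} (hind : IsInducedBlock M H b B) {χ : IrrCharacter G} (hχ : χ ∉ B)
    (g : H) {u : G} (hu : IsPPart p (g : G) u) (hzu : z ∈ Subgroup.zpowers u) :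
    blockPart b (fun k : H => (χ : G → ℂ) (k : G)) g = 0 := by
  have := charP_residueField hM
  obtain ⟨hb, hB, hall⟩ := isInducedBlock_iff.1 hind
  have hcl : IsClassFunction H (fun k : H => (χ : G → ℂ) (k : G)) := fun k y => by
    simp only [Subgroup.coe_mul, Subgroup.coe_inv]
    exact Char.IsIrr.isClassFunction χ.2 _ _
  rw [blockPart_eq_sum_blockCoeff b hcl g]
  set q : MonoidAlgebra (localRing M) G := inclElt H (blockIdemO M b) with hq
  set q' : MonoidAlgebra (localRing M) G := q * blockIdemO M B with hq'
  have hBc := isCentralElt_blockIdemO (M := M) hB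
  have hq2 : q * q = q := by rw [hq, ← map_mul, blockIdemO_mul_self hb]
  have hq'2 : q' * q' = q' := by
    rw [hq', mul_assoc, ← mul_assoc (blockIdemO M B), (hBc.commute q).eq, mul_assoc q (blockIdemO M B),
      blockIdemO_mul_self hB, ← mul_assoc, hq2]
  have hqi : InvUnder (Subgroup.zpowers (g : G)) q := invUnder_inclElt_of_commute g.2
    (InvUnder.of_isCentralElt _ (isCentralElt_blockIdemO hb))
  have hq'i : InvUnder (Subgroup.zpowers (g : G)) q' :=
    InvUnder.mul hqi (InvUnder.of_isCentralElt _ hBc)
  have hUp := isPGroup_zpowers_pPart hu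
  have hle : Subgroup.zpowers u ≤ Subgroup.zpowers (g : G) :=
    Subgroup.zpowers_le.2 (mem_zpowers_pPart hu)
  -- the centralizer of `u` lies in `H`
  have hCH : Subgroup.centralizer (Subgroup.zpowers u : Set G) ≤ H := fun c hc => by
    rw [hH]
    refine Subgroup.mem_centralizer_iff.2 fun y hy => ?_
    exact Subgroup.mem_centralizer_iff.1 hc y (Subgroup.zpowers_le.2 hzu hy)
  have hres : resC (Subgroup.zpowers u) (red M q) = resC (Subgroup.zpowers u) (red M q') := by
    obtain ⟨k, hk⟩ := hz
    set c : MonoidAlgebra (Res M) H := resElt H (blockIdemBar M B) with hcdef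
    have hcc : IsCentralElt c := isCentralElt_resElt H (isCentralElt_blockIdemBar hB)
    have hc2 : c * c = c := resElt_idem hM hH
      (IsPGroup.of_card (n := k) (by rw [Nat.card_zpowers, hk]))
      (isCentralElt_blockIdemBar hB) (blockIdemBar_mul_self hB)
    have hbc : blockIdemBar M b * c = blockIdemBar M b := by
      refine idem_eq_of_omegaBar_eq ((isCentralElt_blockIdemBar hb).mul hcc)
        (isCentralElt_blockIdemBar hb) ?_ (blockIdemBar_mul_self hb) fun ξ => ?_
      · rw [mul_assoc, ← mul_assoc c, (hcc.commute _).eq, mul_assoc (blockIdemBar M b) c, hc2,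
          ← mul_assoc, blockIdemBar_mul_self hb]
      · rw [omegaBar_mul ξ (isCentralElt_blockIdemBar hb) hcc, omegaBar_blockIdemBar hb]
        split_ifs with hξ
        · obtain ⟨χ₀, hχ₀⟩ := IsPBlock.nonempty hB
          rw [one_mul, hcdef, hall ξ hξ χ₀ hχ₀ _ (isCentralElt_blockIdemBar hB),
            omegaBar_blockIdemBar hB, if_pos hχ₀]
        · rw [zero_mul]
    have hBu : resC (Subgroup.zpowers u) (blockIdemBar M B) =
        resC (Subgroup.zpowers u) (inclElt H c) := by
      refine MonoidAlgebra.ext (Finsupp.ext fun w => ?_)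
      rw [coeff_resC, coeff_resC,
        show (inclElt H c).coeff (w : G) = c.coeff ⟨(w : G), hCH w.2⟩ from
          coeff_inclElt H c ⟨(w : G), hCH w.2⟩, hcdef, coeff_resElt]
    have hb' : InvUnder (Subgroup.zpowers u) (inclElt H (blockIdemBar M b)) :=
      (invUnder_inclElt_of_commute g.2
        (InvUnder.of_isCentralElt _ (isCentralElt_blockIdemBar hb))).mono hle
    have hc' : InvUnder (Subgroup.zpowers u) (inclElt H c) :=
      (invUnder_inclElt_of_commute g.2 (InvUnder.of_isCentralElt _ hcc)).mono hle
    have e1 : red M q = inclElt H (blockIdemBar M b) := red_inclElt H _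
    have e2 : red M q' = inclElt H (blockIdemBar M b) * blockIdemBar M B := by
      rw [hq', map_mul, e1]
      rfl
    rw [e1, e2, resC_mul hUp hb' (InvUnder.of_isCentralElt _ (isCentralElt_blockIdemBar hB)), hBu,
      ← resC_mul hUp hb' hc', ← map_mul, hbc]
  have h0 : tr (χ : G → ℂ) (g : G) q = 0 := by
    rw [tr_eq_of_resC_eq hM χ hu hq2 hq'2 hqi hq'i hres, hq', tr_mul_blockIdemO_eq_zero hB hχ]
  rw [← h0, tr, ← Finset.sum_filter_of_ne (p := fun x : G => x ∈ H) (s := Finset.univ)
      (fun x _ hne => by by_contra hx; simp [hq, coeff_inclElt_of_notMem _ _ hx] at hne),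
    Finset.sum_subtype (p := fun x : G => x ∈ H) _ (by simp)]
  refine Finset.sum_congr rfl fun k _ => ?_
  rw [hq, coeff_inclElt, ← coeff_inc, inc_blockIdemO hb, coeff_blockIdem, Subgroup.coe_mul]

end CfsgLib.Blocks.DihedralDefect
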