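import Cfsg.Agent.Lib.Blocks.DihedralDefect.Local
import Cfsg.Agent.Lib.Blocks.DihedralDefect.Vanish
import Cfsg.Agent.Lib.Blocks.DihedralFormula.Setup
import Cfsg.Agent.Lib.Char.Induced

/-!
# The induced generalized characters of a block with dihedral defect group

The combinations `θ j` live on the elements having the central involution as a power; these form
a trivial intersection set relative to the centralizer of that involution.
-/

set_option autoImplicit false

namespace CfsgLib.Blocks.DihedralDefect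

open Cfsg CfsgLib.Blocks CfsgLib.Pairs CfsgLib.Star CfsgLib.Char
open scoped Classical ComplexConjugate

variable {G : Type*} [Group G]

/-- The elements with `z` as a power. -/
def Supp (z g : G) : Prop := ∃ m : ℕ, g ^ m = z

variable [Fintype G]

/-- The support is a trivial intersection set for the centralizer of the involution `z`. -/
theorem Supp.conj_commute {z g x : G} (hz : z * z = 1) (hz1 : z ≠ 1) (hg : Supp z g)
    (hg' : Supp z (x * g * x⁻¹)) : Commute x z := by
  obtain ⟨m, hm⟩ := hg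
  obtain ⟨m', hm'⟩ := hg'
  have h1 : (x * g * x⁻¹) ^ m = x * z * x⁻¹ := by rw [conj_pow, hm]
  have h2 : x * z * x⁻¹ = z := DihedralFormula.involution_eq (k := x * g * x⁻¹)
    (h1 ▸ Subgroup.npow_mem_zpowers _ m) (hm' ▸ Subgroup.npow_mem_zpowers _ m')
    (by rw [show x * z * x⁻¹ * (x * z * x⁻¹) = x * (z * z) * x⁻¹ by group, hz]; group) hz
    (fun e => hz1 (by simpa using e)) hz1
  exact mul_inv_eq_iff_eq_mul.1 h2

theorem Supp.not_two_dvd {z g : G} (hz : z * z = 1) (hz1 : z ≠ 1) (hg : Supp z g) :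
    2 ∣ orderOf g := by
  obtain ⟨m, hm⟩ := hg
  have h1 : orderOf z = 2 := orderOf_eq_prime (by rw [pow_two]; exact hz) hz1
  rw [← h1, ← hm]
  exact orderOf_pow_dvd m

/-- An involution that is a power of an element is a power of its 2-part. -/
theorem Supp.mem_zpowers_pPart [Fact (Nat.Prime 2)] {z g u : G} (hz : z * z = 1) (hg : Supp z g)
    (hu : IsPPart 2 g u) : z ∈ Subgroup.zpowers u := by
  obtain ⟨m, hm⟩ := hg
  obtain ⟨y, hy, hc, -, hyo⟩ := hu
  obtain ⟨a, ha⟩ : Odd (orderOf y) := Nat.odd_iff.2 (Nat.two_dvd_ne_zero.1 hyo)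
  have h1 : z ^ orderOf y = z := by
    rw [ha, pow_succ, pow_mul, pow_two, hz, one_pow, one_mul]
  have h2 : g ^ (m * orderOf y) = z := by rw [pow_mul, hm, h1]
  rw [← hy, hc.mul_pow, mul_comm m, pow_mul y, pow_orderOf_eq_one, one_pow, mul_one] at h2
  exact h2 ▸ Subgroup.npow_mem_zpowers u _

variable {H : Subgroup G}

/-- A function on `H` supported on the trivial intersection set induces to itself there. -/
theorem indFun_eq_self {z : G} (hz : z * z = 1) (hz1 : z ≠ 1)
    (hH : ∀ x : G, Commute x z → x ∈ H) {θ : H → ℂ} (hθ : IsClassFunction H θ)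
    (hsupp : ∀ k : H, θ k ≠ 0 → Supp z (k : G)) {g : H} (hg : Supp z (g : G)) :
    indFun H θ (g : G) = θ g := by
  have hterm : ∀ x : G, extendByZero H θ (x⁻¹ * g * x) = if x ∈ H then θ g else 0 := by
    intro x
    by_cases hx : x ∈ H
    · rw [if_pos hx, show x⁻¹ * (g : G) * x = (((⟨x, hx⟩ : H)⁻¹ * g * ⟨x, hx⟩ : H) : G) from rfl,
        extendByZero_coe]
      have := hθ g (⟨x, hx⟩ : H)⁻¹
      rwa [inv_inv] at this
    · rw [if_neg hx]
      by_contra hne
      by_cases hm : x⁻¹ * (g : G) * x ∈ H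
      · rw [show x⁻¹ * (g : G) * x = ((⟨_, hm⟩ : H) : G) from rfl, extendByZero_coe] at hne
        refine hx (hH x ?_)
        have := Supp.conj_commute (x := x) hz hz1 (hsupp _ hne)
          (by rw [show x * (x⁻¹ * (g : G) * x) * x⁻¹ = (g : G) by group]; exact hg)
        exact this
      · exact hne (extendByZero_of_notMem H θ hm)
  rw [indFun, Finset.sum_congr rfl fun x _ => hterm x, Finset.sum_ite, Finset.sum_const_zero,
    add_zero, Finset.sum_const, nsmul_eq_mul,
    show (Finset.univ.filter (fun x : G => x ∈ H)).card = Nat.card H by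
      rw [Nat.card_eq_fintype_card, Fintype.card_subtype],
    inv_mul_cancel_left₀ (Nat.cast_ne_zero.2 Nat.card_pos.ne')]

theorem indFun_eq_zero_of_not_supp {z : G} {θ : H → ℂ}
    (hsupp : ∀ k : H, θ k ≠ 0 → Supp z (k : G)) {g : G}
    (hg : ∀ x : G, ¬ Supp z (x⁻¹ * g * x)) : indFun H θ g = 0 := by
  rw [indFun, Finset.sum_eq_zero fun x _ => ?_, mul_zero]
  by_cases hm : x⁻¹ * g * x ∈ H
  · rw [show x⁻¹ * g * x = ((⟨_, hm⟩ : H) : G) from rfl, extendByZero_coe]
    by_contra hne
    exact hg x (hsupp ⟨_, hm⟩ hne)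
  · exact extendByZero_of_notMem H θ hm

/-- Induction from the trivial intersection set is an isometry. -/
theorem classInner_indFun_indFun {z : G} (hz : z * z = 1) (hz1 : z ≠ 1)
    (hH : ∀ x : G, Commute x z → x ∈ H) {θ θ' : H → ℂ} (hθ' : IsClassFunction H θ')
    (hsupp : ∀ k : H, θ k ≠ 0 → Supp z (k : G)) (hsupp' : ∀ k : H, θ' k ≠ 0 → Supp z (k : G)) :
    classInner (indFun H θ) (indFun H θ') = classInner θ θ' := by
  rw [frobenius_reciprocity H θ (isClassFunction_indFun H θ'), classInner, classInner]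
  congr 1
  refine Finset.sum_congr rfl fun k _ => ?_
  by_cases hk : θ k = 0
  · rw [hk, zero_mul, zero_mul]
  · rw [indFun_eq_self hz hz1 hH hθ' hsupp' (hsupp k hk)]

variable {M : Ideal AlgInt} [M.IsPrime] [Fact (Nat.Prime 2)] {B : Set (IrrCharacter G)}
  {b : Set (IrrCharacter H)} {D : Subgroup H} {σ τ : H} {q : ℕ} {l : Subgroup.zpowers σ →* ℂˣ}
  {e : Set (IrrCharacter (Subgroup.centralizer (D : Set H)))} {F : FusionSystem D}
  {ξ₀ : IrrCharacter H} {Φ : IrrCharacter D ≃ b}

/-- The local block of a block with dihedral defect group at the central involution. -/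
structure Ctx (M : Ideal AlgInt) [M.IsPrime] (B : Set (IrrCharacter G)) (b : Set (IrrCharacter H))
    (D : Subgroup H) (σ τ : H) (q : ℕ) (l : Subgroup.zpowers σ →* ℂˣ)
    (e : Set (IrrCharacter (Subgroup.centralizer (D : Set H)))) (F : FusionSystem D)
    (ξ₀ : IrrCharacter H) (Φ : IrrCharacter D ≃ b) : Prop where
  dih : Dih D σ τ q l
  loc : Loc M b D e F ξ₀ Φ
  cent : H = Subgroup.centralizer ({((σ ^ q : H) : G)} : Set G)
  ind : IsInducedBlock M H b B
  defect : blockDefect 2 b = blockDefect 2 B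
  pow : 2 ^ blockDefect 2 B = 4 * q

omit [Fintype G] in
theorem centralizer_zpowers (z : G) :
    Subgroup.centralizer (Subgroup.zpowers z : Set G) = Subgroup.centralizer ({z} : Set G) := by
  rw [Subgroup.zpowers_eq_closure, Subgroup.centralizer_closure]

/-- The block of the centralizer below a maximal pair at a central element of the defect group. -/
theorem exists_local_block (hM : IsPModular 2 M) (hB : IsPBlock M B) {P : Subgroup G}
    (hP : IsDefectGroup 2 M B P) {z : G} (hzP : z ∈ P) (hzc : z ∈ Subgroup.centralizer (P : Set G))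
    {K : Subgroup G} (hK : K = Subgroup.centralizer (Subgroup.zpowers z : Set G)) :
    ∃ (b : Set (IrrCharacter K)), IsPBlock M b ∧ IsInducedBlock M K b B ∧
      blockDefect 2 b = blockDefect 2 B ∧ IsDefectGroup 2 M b (P.subgroupOf K) := by
  subst hK
  obtain ⟨c, hc⟩ := exists_pairOf_of_isDefectGroup hM hB hP
  have hmax := isMaximal_of_isDefectGroup hM hc hP
  obtain ⟨f, -, hle⟩ := exists_below hM (Nat.card P) (Nat.sub_le _ _) hmax.1.1
    (Subgroup.zpowers_le.2 hzP)
  have hfB := (subpairLE_pairOf_iff hM (a := ⟨Subgroup.zpowers z, f⟩) hle B).1 hmax.1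
  have hd := blockDefect_eq_of_central hM hmax hzc hle
  refine ⟨f, hfB.1.2, Star.isInducedBlock_of_pairOf hM hfB, hd, ?_⟩
  have hPC : P ≤ Subgroup.centralizer (Subgroup.zpowers z : Set G) := by
    rw [centralizer_zpowers]
    exact fun x hx => Subgroup.mem_centralizer_singleton_iff.2
      (Subgroup.mem_centralizer_iff.1 hzc x hx)
  have hco : ∀ k : Subgroup.centralizer (Subgroup.zpowers z : Set G), blockCoeff f k =
      subgroupBlockCoeff (Subgroup.centralizer (Subgroup.zpowers z : Set G)) f (k : G) := fun k => by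
    unfold subgroupBlockCoeff
    rw [dif_pos k.2]
  have hbr := brv_centralizerIn hM hmax.1.1 hle
  rw [inf_eq_left.2 hPC] at hbr
  obtain ⟨D', hD', hPD⟩ := exists_defectGroup_ge hM hfB.1.2 le_rfl hfB.1.2 hco hPC hmax.1.1.1 hbr
  have h1 : Nat.card D' = 2 ^ blockDefect 2 f := IsDefectGroup.card_eq hM hfB.1.2 hD'
  have h2 : Nat.card P = 2 ^ blockDefect 2 B := IsDefectGroup.card_eq hM hB hP
  rwa [Subgroup.eq_of_le_of_card_ge hPD
    (by rw [CfsgLib.Fusion.card_subgroupOf_eq hPC, h1, h2, hd])]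

/-- The local block in given coordinates. -/
theorem exists_ctx_of_dih (hM : IsPModular 2 M) (hB : IsPBlock M B) {P : Subgroup G}
    (hP : IsDefectGroup 2 M B P) {σ₀ τ₀ : G} {r : ℕ} {l₀ : Subgroup.zpowers σ₀ →* ℂˣ}
    (h : Dih P σ₀ τ₀ r l₀) :
    ∃ (H : Subgroup G) (b : Set (IrrCharacter H)) (D : Subgroup H) (σ τ : H)
      (l : Subgroup.zpowers σ →* ℂˣ)
      (e : Set (IrrCharacter (Subgroup.centralizer (D : Set H)))) (F : FusionSystem D)
      (ξ₀ : IrrCharacter H) (Φ : IrrCharacter D ≃ b),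
      Ctx M B b D σ τ r l e F ξ₀ Φ ∧ (σ : G) = σ₀ := by
  have hzc : σ₀ ^ r ∈ Subgroup.centralizer (P : Set G) :=
    Subgroup.mem_centralizer_iff.2 fun x hx => (h.z_commute hx).symm.eq
  obtain ⟨b, hb, hind, hd, hD⟩ := exists_local_block hM hB hP h.z_mem hzc
    (centralizer_zpowers (σ₀ ^ r)).symm
  have hPH : P ≤ Subgroup.centralizer ({σ₀ ^ r} : Set G) := fun x hx =>
    Subgroup.mem_centralizer_singleton_iff.2 (h.z_commute hx).symm.eq
  obtain ⟨l', h'⟩ := h.subgroupOf hPH
  have hzK : ∀ g : Subgroup.centralizer ({σ₀ ^ r} : Set G), Commute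
      ((⟨σ₀, hPH h.memσ⟩ : Subgroup.centralizer ({σ₀ ^ r} : Set G)) ^ r) g := fun g =>
    Subtype.ext (by
      simpa using (Subgroup.mem_centralizer_singleton_iff.1 g.2).symm)
  obtain ⟨e, F, ξ₀, Φ, L⟩ := exists_loc hM hb hD h' hzK
  exact ⟨_, b, _, _, _, l', e, F, ξ₀, Φ, ⟨h', L, rfl, hind, hd,
    (IsDefectGroup.card_eq hM hB hP).symm.trans h.card⟩, rfl⟩

/-- The local block exists. -/
theorem exists_ctx (hM : IsPModular 2 M) (hB : IsPBlock M B) {P : Subgroup G}
    (hP : IsDefectGroup 2 M B P) {r : ℕ} (hr : 2 ≤ r) (he : ∃ n, r = 2 ^ n)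
    (eP : P ≃* DihedralGroup (2 * r)) :
    ∃ (H : Subgroup G) (b : Set (IrrCharacter H)) (D : Subgroup H) (σ τ : H)
      (l : Subgroup.zpowers σ →* ℂˣ)
      (e : Set (IrrCharacter (Subgroup.centralizer (D : Set H)))) (F : FusionSystem D)
      (ξ₀ : IrrCharacter H) (Φ : IrrCharacter D ≃ b),
      Ctx M B b D σ τ r l e F ξ₀ Φ := by
  obtain ⟨σ₀, τ₀, l₀, h⟩ := exists_dih P hr he eP
  obtain ⟨H, b, D, σ, τ, l, e, F, ξ₀, Φ, C, -⟩ := exists_ctx_of_dih hM hB hP h
  exact ⟨H, b, D, σ, τ, l, e, F, ξ₀, Φ, C⟩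

variable (C : Ctx M B b D σ τ q l e F ξ₀ Φ)
include C

theorem Ctx.z_sq : ((σ ^ q : H) : G) * ((σ ^ q : H) : G) = 1 :=
  congrArg Subtype.val C.dih.z_sq

theorem Ctx.z_ne : ((σ ^ q : H) : G) ≠ 1 := fun e => C.dih.z_ne (Subtype.ext e)

theorem Ctx.mem_of_commute {x : G} (hx : Commute x ((σ ^ q : H) : G)) : x ∈ H :=
  C.cent.ge (Subgroup.mem_centralizer_singleton_iff.2 hx.eq)

theorem Ctx.z_central (g : H) : Commute (σ ^ q) g :=
  Subtype.ext (Subgroup.mem_centralizer_singleton_iff.1 (C.cent.le g.2)).symm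

variable [Fintype (IrrCharacter D)]

theorem Ctx.isClassFunction_restrict (j : ℕ) :
    IsClassFunction D fun x : D => dlt l j (x : H) :=
  C.dih.isClassFunction_dlt j

omit [Fintype (IrrCharacter D)] in
/-- A nontrivial rotation among the images puts an element in the support. -/
theorem Ctx.supp_of_image {g u x : H} (hu : u ∈ Subgroup.zpowers g)
    (hx : x * u * x⁻¹ ∈ Subgroup.zpowers σ) (hu1 : u ≠ 1) : Supp ((σ ^ q : H) : G) (g : G) := by
  obtain ⟨m, hm⟩ := C.dih.exists_pow_eq_z hx fun e => hu1 (by simpa using e)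
  have h1 : u ^ m = σ ^ q := by
    rw [conj_pow, mul_inv_eq_iff_eq_mul, (C.z_central x).eq] at hm
    exact mul_left_cancel hm
  obtain ⟨k, hk⟩ := (mem_powers_iff_mem_zpowers.2 hu : u ∈ Submonoid.powers g)
  exact ⟨k * m, by rw [← SubgroupClass.coe_pow, pow_mul]; simp only at hk; rw [hk, h1]⟩

/-- The combinations of the rotation functions are supported on the support set. -/
theorem Ctx.supp_of_comb_ne_zero {a : H → ℂ} (ha : IsClassFunction D fun x : D => a (x : H))
    (ha1 : a 1 = 0) (har : ∀ x ∈ D, x ∉ Subgroup.zpowers σ → a x = 0) (g : H)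
    (hne : comb Φ a g ≠ 0) : Supp ((σ ^ q : H) : G) (g : G) := by
  obtain ⟨u, s, hk, hs, hc, rfl⟩ := exists_decomp (p := 2) g
  by_contra hno
  refine hne ?_
  rw [C.loc.comb_apply_const ha hk hs hc (v := 0) fun x hx => ?_, zero_mul]
  by_cases hu1 : u = 1
  · rw [hu1, mul_one, mul_inv_cancel, ha1]
  by_cases hxσ : x * u * x⁻¹ ∈ Subgroup.zpowers σ
  · exact absurd (C.supp_of_image (mem_zpowers_pPart ⟨s, rfl, hc, hk, hs⟩) hxσ hu1) hno
  · exact har _ hx hxσ

theorem Ctx.supp_dlt (j : ℕ) (g : H) (hne : comb Φ (dlt l j) g ≠ 0) :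
    Supp ((σ ^ q : H) : G) (g : G) :=
  C.supp_of_comb_ne_zero (C.isClassFunction_restrict j) (dlt_one j)
    (fun _ _ hx => dlt_of_notMem hx j) g hne

/-- The multiplicities are integers. -/
theorem Ctx.exists_int_coeff (j : ℕ) (χ : IrrCharacter G) :
    ∃ m : ℤ, classInner (indFun H (comb Φ (dlt l j))) (χ : G → ℂ) = m := by
  rw [frobenius_reciprocity _ _ (Char.IsIrr.isClassFunction χ.2), C.loc.classInner_comb_right]
  have hη : ∀ η : IrrCharacter D, ∃ n : ℕ,
      classInner ((Φ η : IrrCharacter H) : H → ℂ) (fun h : H => (χ : G → ℂ) h) = n := fun η =>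
    IsChar.classInner_eq_natCast (Char.IsIrr.isCharacter (Φ η : IrrCharacter H).2)
      (IsChar.restrict H (Char.IsIrr.isCharacter χ.2))
  choose n hn using hη
  choose m hm using fun η : IrrCharacter D => C.dih.exists_int_classInner_dlt j η
  exact ⟨∑ η, m η * n η, by simp only [hm, hn]; push_cast; rfl⟩

/-- The multiplicities vanish outside the block. -/
theorem Ctx.coeff_eq_zero (j : ℕ) {χ : IrrCharacter G} (hχ : χ ∉ B) :
    classInner (indFun H (comb Φ (dlt l j))) (χ : G → ℂ) = 0 := by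
  have := Fintype.ofFinite (IrrCharacter H)
  rw [frobenius_reciprocity _ _ (Char.IsIrr.isClassFunction χ.2)]
  set f : H → ℂ := fun h => (χ : G → ℂ) h with hf
  have hexp : blockPart b f =
      ∑ ψ : IrrCharacter H, (if ψ ∈ b then classInner f (ψ : H → ℂ) else 0) • (ψ : H → ℂ) := by
    funext g
    rw [blockPart_eq, Finset.sum_apply, finsum_mem_eq_finite_toFinset_sum _ (Set.toFinite b),
      ← Finset.sum_filter_of_ne (p := fun ψ => ψ ∈ b) (s := Finset.univ) fun ψ _ hne => by
        by_contra hψ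
        exact hne (by rw [Pi.smul_apply, if_neg hψ, zero_smul])]
    exact Finset.sum_congr (by ext; simp) fun ψ hψ => by
      rw [Pi.smul_apply, smul_eq_mul, if_pos (Finset.mem_filter.1 hψ).2]
  have h1 : classInner (comb Φ (dlt l j)) (blockPart b f) = classInner (comb Φ (dlt l j)) f := by
    rw [C.loc.classInner_comb_right, C.loc.classInner_comb_right]
    refine Finset.sum_congr rfl fun η _ => ?_
    congr 1
    rw [← classInner_conj_symm, hexp, classInner_sum_irr, if_pos (Φ η).2, classInner_conj_symm]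
  rw [← h1, classInner, Finset.sum_eq_zero fun g _ => ?_, mul_zero]
  by_cases hg : comb Φ (dlt l j) g = 0
  · rw [hg, zero_mul]
  · have hs := C.supp_dlt j g hg
    obtain ⟨u, hu⟩ : ∃ u, IsPPart 2 (g : G) u := ⟨_, isPPart_pPt _⟩
    have hH : H = Subgroup.centralizer (Subgroup.zpowers ((σ ^ q : H) : G) : Set G) :=
      C.cent.trans (centralizer_zpowers _).symm
    rw [hf, blockPart_restrict_eq_zero C.loc.modular
      ⟨1, by rw [pow_one, Subgroup.orderOf_coe, C.dih.z_ord]⟩ hH C.ind hχ g hu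
      (hs.mem_zpowers_pPart C.z_sq hu), map_zero, mul_zero]

end CfsgLib.Blocks.DihedralDefect
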