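import Cfsg.Agent.Lib.Blocks.DihedralDefect.RotationInner
import Cfsg.Agent.Lib.Blocks.Star.Nilpotent
import Cfsg.Agent.Lib.Blocks.Star.Stab
import Cfsg.Agent.Lib.Fusion.NormalCriterion

/-!
# A block with dihedral defect group and central involution in the centre

Such a block is nilpotent, so its characters are the products of a character of height zero with
the characters of the defect group.
-/

set_option autoImplicit false

namespace CfsgLib.Blocks.DihedralDefect

open Cfsg CfsgLib.Blocks CfsgLib.Pairs CfsgLib.Star CfsgLib.Char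
open scoped Classical ComplexConjugate

variable {K : Type*} [Group K] [Fintype K] {M : Ideal AlgInt} [M.IsPrime]
  {b : Set (IrrCharacter K)} {D : Subgroup K}
  {e : Set (IrrCharacter (Subgroup.centralizer (D : Set K)))} {F : FusionSystem D}

/-- The parametrization of a nilpotent 2-block. -/
structure Loc (M : Ideal AlgInt) [M.IsPrime] [Fact (Nat.Prime 2)] (b : Set (IrrCharacter K))
    (D : Subgroup K) (e : Set (IrrCharacter (Subgroup.centralizer (D : Set K))))
    (F : FusionSystem D) (ξ₀ : IrrCharacter K) (Φ : IrrCharacter D ≃ b) : Prop where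
  modular : IsPModular 2 M
  hF : IsBlockFusionSystemOn 2 M b D e F
  inn : ∀ Q : Subgroup K, F.Hom Q = (innerFusionSystem D).Hom Q
  nil : IsNilpotentBlock 2 M b
  mem : ξ₀ ∈ b
  height : blockHeight 2 b (ξ₀ : K → ℂ) = 0
  formula : ∀ η, (((Φ η : b) : IrrCharacter K) : K → ℂ) =
    star 2 M D e (extP D (η : D → ℂ)) (ξ₀ : K → ℂ)

variable [Fact (Nat.Prime 2)] {σ τ : K} {q : ℕ} {l : Subgroup.zpowers σ →* ℂˣ}

/-- With the central involution in the centre the block is nilpotent. -/
theorem exists_loc (hM : IsPModular 2 M) (hb : IsPBlock M b) (hD : IsDefectGroup 2 M b D)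
    (h : Dih D σ τ q l) (hz : ∀ g : K, Commute (σ ^ q) g) :
    ∃ (e : Set (IrrCharacter (Subgroup.centralizer (D : Set K)))) (F : FusionSystem D)
      (ξ₀ : IrrCharacter K) (Φ : IrrCharacter D ≃ b), Loc M b D e F ξ₀ Φ := by
  obtain ⟨e, he⟩ := exists_pairOf_of_isDefectGroup hM hb hD
  have hmax := isMaximal_of_isDefectGroup hM he hD
  have hF := isBlockFusionSystemOn_blockFusion hM hmax
  have hsat := isSaturated_of_isBlockFusionSystemOn hF hM
  have hinner : blockFusion hM hmax = innerFusionSystem D := by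
    refine CfsgLib.Fusion.eq_inner_of_isPGroup_autGroup h.isPGroup hsat fun Q hQ => ?_
    rintro ⟨α, hα⟩
    have : Finite (MulAut Q) := CfsgLib.Fusion.finite_mulAut_of_le (S := D) hQ
    obtain ⟨g, hg, -⟩ := (mem_hom_iff hF).1 ((CfsgLib.Fusion.mem_autGroup_iff hQ).1 hα)
    have hfix : ∀ x : Q, (x : K) = σ ^ q → α x = x := fun x hx => by
      refine Subtype.ext ?_
      have h1 : ((α x : Q) : K) = g * (x : K) * g⁻¹ := hg x
      rw [h1, hx, ← (hz g).eq, mul_inv_cancel_right]
    obtain ⟨v, m, hm, hvm⟩ := Nat.exists_eq_two_pow_mul_odd (orderOf_pos α).ne'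
    refine ⟨v, Subtype.ext ?_⟩
    rw [SubgroupClass.coe_pow, Subgroup.coe_one]
    refine h.aut_eq_one hQ hm (by rw [← pow_mul, ← hvm, pow_orderOf_eq_one]) fun x hx => ?_
    have : ∀ n : ℕ, (α ^ n) x = x := fun n => by
      induction n with
      | zero => simp
      | succ n ih => rw [pow_succ', MulAut.mul_apply, ih, hfix x hx]
    exact this _
  have hinn : ∀ Q : Subgroup K, (blockFusion hM hmax).Hom Q = (innerFusionSystem D).Hom Q :=
    fun Q => by rw [hinner]
  have hnil := nilpotent_of_eq_inner hF hM hinn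
  obtain ⟨ξ₀, hξ, hξ0⟩ := exists_height_zero (p := 2) (IsPBlock.nonempty hb)
  obtain ⟨Φ, hΦ⟩ := exists_equiv_of_nilpotent hM hF hξ hinn hnil hξ0
  exact ⟨e, _, ξ₀, Φ, hM, hF, hinn, hnil, hξ, hξ0, hΦ⟩

variable {ξ₀ : IrrCharacter K} {Φ : IrrCharacter D ≃ b}

/-- The combination of the members of the block attached to a class function on the defect
group. -/
noncomputable def comb (Φ : IrrCharacter D ≃ b) [Fintype (IrrCharacter D)] (a : K → ℂ) :
    K → ℂ :=
  ∑ η : IrrCharacter D,
    classInner (fun x : D => a (x : K)) (η : D → ℂ) • ((Φ η : IrrCharacter K) : K → ℂ)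

variable [Fintype (IrrCharacter D)] (L : Loc M b D e F ξ₀ Φ)
include L

theorem Loc.classInner_Φ (η η' : IrrCharacter D) :
    classInner ((Φ η : IrrCharacter K) : K → ℂ) ((Φ η' : IrrCharacter K) : K → ℂ) =
      classInner (η : D → ℂ) (η' : D → ℂ) := by
  rw [L.formula, L.formula]
  exact classInner_star_extP L.modular L.hF L.mem L.inn L.nil L.height η η'

theorem Loc.classInner_comb {a a' : K → ℂ} (ha : IsClassFunction D fun x : D => a (x : K))
    (ha' : IsClassFunction D fun x : D => a' (x : K)) :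
    classInner (comb Φ a) (comb Φ a') =
      classInner (fun x : D => a (x : K)) (fun x : D => a' (x : K)) := by
  conv_rhs => rw [classFunction_eq_sum ha, classFunction_eq_sum ha']
  simp only [comb, classInner_sum_left, classInner_smul_left, classInner_sum_right,
    classInner_smul_right, L.classInner_Φ]

theorem Loc.classInner_comb_right (a : K → ℂ) (f : K → ℂ) :
    classInner (comb Φ a) f = ∑ η : IrrCharacter D,
      classInner (fun x : D => a (x : K)) (η : D → ℂ) *
        classInner ((Φ η : IrrCharacter K) : K → ℂ) f := by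
  simp only [comb, classInner_sum_left, classInner_smul_left]

omit L in
theorem isClassFunction_comb (a : K → ℂ) : IsClassFunction K (comb Φ a) := fun g y => by
  simp only [comb, Finset.sum_apply, Pi.smul_apply, smul_eq_mul]
  exact Finset.sum_congr rfl fun η _ => by
    rw [Char.IsIrr.isClassFunction (Φ η : IrrCharacter K).2]

/-- The weight of a combination at a pair. -/
noncomputable def combWt (M : Ideal AlgInt) (D : Subgroup K)
    (e : Set (IrrCharacter (Subgroup.centralizer (D : Set K)))) [Fintype (IrrCharacter D)]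
    (a : K → ℂ) (u : K) (w : BrauerPairIdx K) : ℂ :=
  ∑ η : IrrCharacter D, classInner (fun x : D => a (x : K)) (η : D → ℂ) *
    wt 2 M D e (extP D (η : D → ℂ)) u w

theorem Loc.combWt_eq {a : K → ℂ} (ha : IsClassFunction D fun x : D => a (x : K)) {u : K}
    {w : BrauerPairIdx K} (hu : u ∈ w.1) {x : K}
    (hx : Relation.ReflTransGen (NormalSubpairRel 2 M) (conjPair x w) ⟨D, e⟩) :
    combWt M D e a u w = a (x * u * x⁻¹) := by
  have hv : x * u * x⁻¹ ∈ D := le_of_subpairLE hx ⟨u, hu, rfl⟩
  refine Eq.trans ?_ (classFunction_apply_eq_sum ha ⟨_, hv⟩).symm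
  refine Finset.sum_congr rfl fun η _ => ?_
  rw [wt_eq L.modular L.hF (isStableChar_extP L.inn η) hu hx, extP, dif_pos hv]

/-- The values of a combination, section by section. -/
theorem Loc.comb_eq_sum_blockPart (a : K → ℂ) {u : K} (hu : ∃ k : ℕ, orderOf u = 2 ^ k)
    {s : Subgroup.centralizer (Subgroup.zpowers u : Set K)} (hs : ¬ 2 ∣ orderOf s)
    [Fintype {f : Set (IrrCharacter (Subgroup.centralizer (Subgroup.zpowers u : Set K))) //
      IsPBlock M f}] :
    comb Φ a (u * (s : K)) = ∑ f : {f : Set (IrrCharacter (Subgroup.centralizer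
      (Subgroup.zpowers u : Set K))) // IsPBlock M f},
        combWt M D e a u ⟨Subgroup.zpowers u, f.1⟩ *
          blockPart f.1 (fun c : Subgroup.centralizer (Subgroup.zpowers u : Set K) =>
            (ξ₀ : K → ℂ) (u * (c : K))) s := by
  simp only [comb, Finset.sum_apply, Pi.smul_apply, smul_eq_mul]
  rw [Finset.sum_congr rfl fun η _ => by
    rw [L.formula, star_eq_sum_blockPart L.modular L.hF (isStableChar_extP L.inn η) ξ₀ hu hs,
      Finset.mul_sum], Finset.sum_comm]
  refine Finset.sum_congr rfl fun f _ => ?_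
  rw [combWt, Finset.sum_mul]
  exact Finset.sum_congr rfl fun η _ => (mul_assoc _ _ _).symm

/-- A combination constant on the images of the 2-part is a multiple of the base character. -/
theorem Loc.comb_apply_const {a : K → ℂ} (ha : IsClassFunction D fun x : D => a (x : K)) {u s : K}
    (hu : ∃ k : ℕ, orderOf u = 2 ^ k) (hs : ¬ 2 ∣ orderOf s) (hc : Commute u s) {v : ℂ}
    (hv : ∀ x : K, x * u * x⁻¹ ∈ D → a (x * u * x⁻¹) = v) :
    comb Φ a (u * s) = v * (ξ₀ : K → ℂ) (u * s) := by
  have hsC : s ∈ Subgroup.centralizer (Subgroup.zpowers u : Set K) := by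
    refine Subgroup.mem_centralizer_iff.2 fun z hz => ?_
    obtain ⟨n, rfl⟩ := Subgroup.mem_zpowers_iff.1 hz
    exact (hc.zpow_left n).eq
  set C := Subgroup.centralizer (Subgroup.zpowers u : Set K) with hC
  have := Fintype.ofFinite {f : Set (IrrCharacter C) // IsPBlock M f}
  have hs' : ¬ 2 ∣ orderOf (⟨s, hsC⟩ : C) := by rwa [Subgroup.orderOf_mk]
  rw [show s = ((⟨s, hsC⟩ : C) : K) from rfl, L.comb_eq_sum_blockPart a hu hs']
  have hcl : IsClassFunction C (fun c : C => (ξ₀ : K → ℂ) (u * (c : K))) := fun c d => by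
    have hd : Commute u (d : K) := Subgroup.mem_centralizer_iff.1 d.2 u (Subgroup.mem_zpowers u)
    simp only [Subgroup.coe_mul, Subgroup.coe_inv]
    rw [show u * ((d : K) * c * (d : K)⁻¹) = (d : K) * (u * c) * (d : K)⁻¹ by
      simp only [← mul_assoc, hd.eq]]
    exact Char.IsIrr.isClassFunction ξ₀.2 _ _
  rw [← sum_blockPart (M := M) hcl ⟨s, hsC⟩, Finset.mul_sum]
  refine Finset.sum_congr rfl fun f _ => ?_
  by_cases hf : IsBrauerPairOf 2 M b (Subgroup.zpowers u) f.1
  · obtain ⟨x, hx⟩ := exists_conj_le L.modular L.hF.1 hf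
    rw [L.combWt_eq ha (w := ⟨Subgroup.zpowers u, f.1⟩) (Subgroup.mem_zpowers u) hx,
      hv x (le_of_subpairLE hx ⟨u, Subgroup.mem_zpowers u, rfl⟩)]
  · rw [part_eq_zero_of_not_pairOf L.modular hu L.hF.1.1.2.1 L.mem f.2 hf hs', mul_zero, mul_zero]

/-- A member of the block vanishes off the sections meeting the defect group. -/
theorem Loc.apply_eq_zero {χ : IrrCharacter K} (hχ : χ ∈ b) {u s : K}
    (hu : ∃ k : ℕ, orderOf u = 2 ^ k) (hs : ¬ 2 ∣ orderOf s) (hc : Commute u s)
    (hno : ∀ x : K, x * u * x⁻¹ ∉ D) : (χ : K → ℂ) (u * s) = 0 := by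
  obtain ⟨η, hη⟩ := Φ.surjective ⟨χ, hχ⟩
  have h1 : (χ : K → ℂ) = comb Φ (extP D (η : D → ℂ)) := by
    have e : (fun x : D => extP D (η : D → ℂ) (x : K)) = (η : D → ℂ) := funext (extP_coe D _)
    simp only [comb, e, classInner_irr, ite_smul, one_smul, zero_smul, Finset.sum_ite_eq,
      Finset.mem_univ, if_true, hη]
  rw [h1, L.comb_apply_const (v := 0) (by
    rw [show (fun x : D => extP D (η : D → ℂ) (x : K)) = (η : D → ℂ) from funext (extP_coe D _)]
    exact Char.IsIrr.isClassFunction η.2) hu hs hc fun x hx => absurd hx (hno x), zero_mul]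

/-- The part of a combination in a block below the maximal pair. -/
theorem Loc.comb_blockPart {a : K → ℂ} (ha : IsClassFunction D fun x : D => a (x : K))
    {Q : Subgroup K} {u : K} (hQ : Q = Subgroup.zpowers u) (hu : ∃ k : ℕ, orderOf u = 2 ^ k)
    {f : Set (IrrCharacter (Subgroup.centralizer (Q : Set K)))} (hf : IsPBlock M f)
    (hle : SubpairLE 2 M Q f D e) {s : Subgroup.centralizer (Q : Set K)} (hs : ¬ 2 ∣ orderOf s) :
    blockPart f (fun c : Subgroup.centralizer (Q : Set K) => comb Φ a (u * (c : K))) s =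
      a u * blockPart f (fun c : Subgroup.centralizer (Q : Set K) =>
        (ξ₀ : K → ℂ) (u * (c : K))) s := by
  subst hQ
  have := Fintype.ofFinite {f : Set (IrrCharacter (Subgroup.centralizer (Subgroup.zpowers u : Set K))) // IsPBlock M f}
  rw [blockPart_congr_regular L.modular hf (φ' := ∑ f' : {f : Set (IrrCharacter (Subgroup.centralizer (Subgroup.zpowers u : Set K))) // IsPBlock M f},
      combWt M D e a u ⟨Subgroup.zpowers u, f'.1⟩ •
        blockPart f'.1 (fun c : Subgroup.centralizer (Subgroup.zpowers u : Set K) => (ξ₀ : K → ℂ) (u * (c : K)))) (fun w hw => by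
      simp only [Finset.sum_apply, Pi.smul_apply, smul_eq_mul]
      exact L.comb_eq_sum_blockPart a hu hw) hs,
    blockPart_sum (M := M) _ _ ⟨f, hf⟩,
    L.combWt_eq ha (w := ⟨Subgroup.zpowers u, f⟩) (Subgroup.mem_zpowers u) (x := 1)
      (by rw [conjPair_one]; exact hle), one_mul, inv_one, mul_one]

end CfsgLib.Blocks.DihedralDefect
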