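import Cfsg.Agent.Lib.Blocks.DihedralDefect.Group
import Cfsg.Agent.Lib.Pairs.Restrict

/-!
# Inner products of the rotation functions
-/

set_option autoImplicit false

namespace CfsgLib.Blocks.DihedralDefect

open Cfsg CfsgLib.Pairs
open scoped Classical ComplexConjugate

variable {K : Type*} [Group K] [Fintype K] {D : Subgroup K} {σ τ : K} {q : ℕ}
  {l : Subgroup.zpowers σ →* ℂˣ} (h : Dih D σ τ q l)
include h

theorem Dih.card_zpowers : (Fintype.card (Subgroup.zpowers σ) : ℂ) = 2 * (q : ℂ) := by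
  rw [← Nat.card_eq_fintype_card, Nat.card_zpowers, h.ord]
  push_cast
  ring

/-- The sums of the powers of the rotation character. -/
theorem Dih.sum_l_pow (m : ℕ) :
    ∑ x : Subgroup.zpowers σ, ((l x : ℂˣ) : ℂ) ^ m =
      if 2 * q ∣ m then 2 * (q : ℂ) else 0 := by
  split_ifs with hm
  · obtain ⟨k, rfl⟩ := hm
    rw [Finset.sum_congr rfl fun x _ => by rw [pow_mul, h.l_pow, one_pow], Finset.sum_const,
      Finset.card_univ, nsmul_eq_mul, mul_one, h.card_zpowers]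
  · set g : Subgroup.zpowers σ := ⟨σ, Subgroup.mem_zpowers σ⟩
    have hne : ((l g : ℂˣ) : ℂ) ^ m ≠ 1 := fun e => hm ((h.prim.pow_eq_one_iff_dvd m).1 e)
    have hs : ((l g : ℂˣ) : ℂ) ^ m * ∑ x : Subgroup.zpowers σ, ((l x : ℂˣ) : ℂ) ^ m =
        ∑ x : Subgroup.zpowers σ, ((l x : ℂˣ) : ℂ) ^ m := by
      rw [Finset.mul_sum]
      exact Fintype.sum_equiv (Equiv.mulLeft g) _ _ fun x => by simp [mul_pow]
    by_contra hne0
    exact hne ((mul_eq_right₀ hne0).1 hs)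

theorem Dih.sum_l_inv_pow (m : ℕ) :
    ∑ x : Subgroup.zpowers σ, (((l x : ℂˣ) : ℂ)⁻¹) ^ m =
      if 2 * q ∣ m then 2 * (q : ℂ) else 0 := by
  rw [← h.sum_l_pow m]
  exact Fintype.sum_equiv (Equiv.inv _) _ _ fun x => by simp

/-- Sums over `D` against a rotation function. -/
theorem Dih.sum_dlt_mul (j : ℕ) (F : K → ℂ) :
    ∑ g : D, dlt l j (g : K) * F g = ∑ x : Subgroup.zpowers σ, dlt l j (x : K) * F x := by
  rw [← Finset.sum_filter_of_ne (p := fun g : D => (g : K) ∈ Subgroup.zpowers σ) fun g _ hne => by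
    by_contra hg
    exact hne (by rw [dlt_of_notMem hg, zero_mul])]
  refine Finset.sum_bij (fun g hg => ⟨(g : K), (Finset.mem_filter.1 hg).2⟩)
    (fun _ _ => Finset.mem_univ _) (fun a _ b _ e => Subtype.ext (congrArg Subtype.val e :))
    (fun x _ => ⟨⟨(x : K), h.zpowers_le x.2⟩, Finset.mem_filter.2 ⟨Finset.mem_univ _, x.2⟩, rfl⟩)
    fun _ _ => rfl

theorem Dih.classInner_dlt_dlt {i j : ℕ} (hi : i ∈ Finset.Icc 1 q) (hj : j ∈ Finset.Icc 1 q) :
    classInner (fun g : D => dlt l i (g : K)) (fun g : D => dlt l j (g : K)) =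
      2 + (if i = j then 1 else 0) + (if i = q ∧ j = q then 1 else 0) := by
  rw [Finset.mem_Icc] at hi hj
  have hq := h.two_le
  have key : ∀ x : Subgroup.zpowers σ, dlt l i (x : K) * dlt l j (x : K) =
      4 - 2 * ((l x : ℂˣ) : ℂ) ^ i - 2 * (((l x : ℂˣ) : ℂ)⁻¹) ^ i - 2 * ((l x : ℂˣ) : ℂ) ^ j -
        2 * (((l x : ℂˣ) : ℂ)⁻¹) ^ j + ((l x : ℂˣ) : ℂ) ^ (i + j) +
        (((l x : ℂˣ) : ℂ)⁻¹) ^ (i + j) + ((l x : ℂˣ) : ℂ) ^ (i + (2 * q - j)) +
        (((l x : ℂˣ) : ℂ)⁻¹) ^ (i + (2 * q - j)) := by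
    intro x
    have e := h.l_pow x
    have e0 : ((l x : ℂˣ) : ℂ) ≠ 0 := Units.ne_zero _
    have e' : (((l x : ℂˣ) : ℂ)⁻¹) ^ (2 * q) = 1 := by rw [inv_pow, e, inv_one]
    rw [dlt_coe, dlt_coe, pow_add, pow_add, pow_add, pow_add, pow_sub₀ _ e0 (by omega : j ≤ 2 * q),
      pow_sub₀ _ (inv_ne_zero e0) (by omega : j ≤ 2 * q), e, e', one_mul, one_mul, ← inv_pow,
      ← inv_pow, inv_inv]
    ring
  have hc : (Nat.card D : ℂ) = 4 * (q : ℂ) := by rw [h.card]; push_cast; ring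
  simp only [classInner, h.conj_dlt]
  rw [h.sum_dlt_mul i (fun g => dlt l j g), Finset.sum_congr rfl fun x _ => key x, hc]
  simp only [Finset.sum_add_distrib, Finset.sum_sub_distrib, ← Finset.mul_sum, h.sum_l_pow,
    h.sum_l_inv_pow, Finset.sum_const, Finset.card_univ, nsmul_eq_mul, h.card_zpowers]
  have hi' : ¬ 2 * q ∣ i := fun hd => by have := Nat.le_of_dvd (by omega) hd; omega
  have hj' : ¬ 2 * q ∣ j := fun hd => by have := Nat.le_of_dvd (by omega) hd; omega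
  have hij : (2 * q ∣ i + j) ↔ (i = q ∧ j = q) := by
    refine ⟨fun hd => ?_, fun ⟨a, b⟩ => ⟨1, by omega⟩⟩
    have := Nat.le_of_dvd (by omega) hd
    omega
  have hdif : (2 * q ∣ i + (2 * q - j)) ↔ i = j := by
    refine ⟨fun hd => ?_, fun e => ⟨1, by omega⟩⟩
    obtain ⟨k, hk⟩ := hd
    rcases k with _ | _ | k
    · simp at hk; omega
    · omega
    · have h2 : 2 * q * (k + 1 + 1) = 2 * q * k + 4 * q := by ring
      rw [h2] at hk
      omega
  have hq0 : (q : ℂ) ≠ 0 := Nat.cast_ne_zero.2 (by omega)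
  simp only [if_neg hi', if_neg hj', hij, hdif]
  split_ifs <;> field_simp <;> ring

theorem Dih.isClassFunction_dlt (j : ℕ) : IsClassFunction D (fun g : D => dlt l j (g : K)) :=
  fun g y => h.dlt_conj (g := (g : K)) y.2 j

/-- The rotation functions are integral against the irreducible characters. -/
theorem Dih.exists_int_classInner_dlt (j : ℕ) (η : IrrCharacter D) :
    ∃ m : ℤ, classInner (fun g : D => dlt l j (g : K)) (η : D → ℂ) = m := by
  let ι : Subgroup.zpowers σ →* D := Subgroup.inclusion h.zpowers_le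
  have hres := CfsgLib.Char.IsChar.comp ι (CfsgLib.Char.IsIrr.isCharacter η.2)
  have hlin : ∀ m : ℕ, ∃ k : ℕ, (2 * (q : ℂ))⁻¹ *
      ∑ x : Subgroup.zpowers σ, ((l x : ℂˣ) : ℂ) ^ m * conj ((η : D → ℂ) (ι x)) = k := by
    intro m
    obtain ⟨k, hk⟩ := CfsgLib.Char.IsChar.classInner_eq_natCast
      (CfsgLib.Char.IsIrr.isCharacter (CfsgLib.Char.isIrrCharacter_linear (l ^ m))) hres
    refine ⟨k, ?_⟩
    rw [← hk, classInner, Nat.card_eq_fintype_card, h.card_zpowers]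
    simp
  have hsym : ∀ x : Subgroup.zpowers σ, (η : D → ℂ) (ι x⁻¹) = (η : D → ℂ) (ι x) := by
    intro x
    rw [← CfsgLib.Char.IsIrr.isClassFunction η.2 (ι x) ⟨τ, h.memτ⟩]
    refine congrArg (η : D → ℂ) (Subtype.ext ?_)
    obtain ⟨i, hi⟩ := Subgroup.mem_zpowers_iff.1 x.2
    show ((x⁻¹ : Subgroup.zpowers σ) : K) = τ * (x : K) * τ⁻¹
    rw [Subgroup.coe_inv, ← hi, h.conj_zpow, zpow_neg]
  obtain ⟨k₀, hk₀⟩ := hlin 0
  obtain ⟨k₁, hk₁⟩ := hlin j
  refine ⟨(k₀ : ℤ) - k₁, ?_⟩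
  have hswap : ∑ x : Subgroup.zpowers σ, (((l x : ℂˣ) : ℂ)⁻¹) ^ j * conj ((η : D → ℂ) (ι x)) =
      ∑ x : Subgroup.zpowers σ, ((l x : ℂˣ) : ℂ) ^ j * conj ((η : D → ℂ) (ι x)) :=
    Fintype.sum_equiv (Equiv.inv _) _ _ fun x => by simp [← hsym x]
  have hc : (Nat.card D : ℂ) = 4 * (q : ℂ) := by rw [h.card]; push_cast; ring
  have hF : ∀ g : D, (η : D → ℂ) g = extendByZero D (η : D → ℂ) (g : K) := fun g =>
    (Subtype.val_injective.extend_apply _ _ g).symm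
  rw [classInner, Finset.sum_congr rfl fun g _ => by rw [hF g],
    h.sum_dlt_mul j fun g => conj (extendByZero D (η : D → ℂ) g), hc]
  rw [Finset.sum_congr rfl (g := fun x : Subgroup.zpowers σ =>
    2 * (((l x : ℂˣ) : ℂ) ^ 0 * conj ((η : D → ℂ) (ι x))) -
      ((l x : ℂˣ) : ℂ) ^ j * conj ((η : D → ℂ) (ι x)) -
      (((l x : ℂˣ) : ℂ)⁻¹) ^ j * conj ((η : D → ℂ) (ι x))) fun x _ => ?_]
  · simp only [Finset.sum_sub_distrib, ← Finset.mul_sum, hswap]
    have hq0 : (q : ℂ) ≠ 0 := Nat.cast_ne_zero.2 (by have := h.two_le; omega)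
    push_cast
    rw [← hk₀, ← hk₁]
    field_simp
    ring
  · show dlt l j (x : K) * conj (extendByZero D (η : D → ℂ) (x : K)) = _
    rw [show (x : K) = ((ι x : D) : K) from rfl, ← hF, show ((ι x : D) : K) = (x : K) from rfl,
      dlt_coe]
    ring

/-- The alternating sum of the rotation functions. -/
theorem Dih.sum_alternating (g : K) :
    ∑ j ∈ Finset.range (2 * q), (-1 : ℂ) ^ (j + 1) * dlt l j g =
      if g = σ ^ q then 4 * (q : ℂ) else 0 := by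
  by_cases hg : g ∈ Subgroup.zpowers σ
  swap
  · rw [if_neg fun e : g = σ ^ q => hg (e ▸ Subgroup.npow_mem_zpowers σ q)]
    exact Finset.sum_eq_zero fun j _ => by rw [dlt_of_notMem hg, mul_zero]
  set x : Subgroup.zpowers σ := ⟨g, hg⟩
  set lam : ℂ := ((l x : ℂˣ) : ℂ) with hlam
  have hgeom : ∀ μ : ℂ, μ ^ (2 * q) = 1 →
      ∑ j ∈ Finset.range (2 * q), μ ^ j = if μ = 1 then 2 * (q : ℂ) else 0 := by
    intro μ hμ
    split_ifs with e
    · simp [e]
    · exact (mul_eq_zero.1 (by rw [geom_sum_mul, hμ, sub_self] :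
        (∑ j ∈ Finset.range (2 * q), μ ^ j) * (μ - 1) = 0)).resolve_right (sub_ne_zero.2 e)
  have hneg : ∀ μ : ℂ, μ ^ (2 * q) = 1 → (-μ) ^ (2 * q) = 1 := fun μ hμ => by
    rw [neg_pow, hμ, mul_one]
    exact (even_two_mul q).neg_one_pow
  have hl := h.l_pow x
  have hl' : (lam⁻¹) ^ (2 * q) = 1 := by rw [inv_pow, hl, inv_one]
  have hm1 : ((-1 : ℂ) = 1) = False := eq_false (by norm_num)
  rw [show g = (x : K) from rfl, Finset.sum_congr rfl (g := fun j => -2 * (-1 : ℂ) ^ j +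
    (-lam) ^ j + (-lam⁻¹) ^ j) fun j _ => by
      rw [dlt_coe, ← hlam, neg_pow lam, neg_pow lam⁻¹, pow_succ]
      ring, Finset.sum_add_distrib, Finset.sum_add_distrib, ← Finset.mul_sum,
    hgeom (-1) ((even_two_mul q).neg_one_pow), hgeom _ (hneg _ hl), hgeom _ (hneg _ hl'),
    if_neg (by norm_num : ¬ (-1 : ℂ) = 1)]
  by_cases hz : lam = -1
  · have hxz : (x : K) = σ ^ q := by
      have h1 : x * (⟨σ ^ q, Subgroup.npow_mem_zpowers σ q⟩ : Subgroup.zpowers σ) = 1 := h.l_inj (by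
        rw [map_mul, Units.val_mul, ← hlam, hz, h.l_z]
        norm_num)
      have h2 := congrArg Subtype.val h1
      rw [Subgroup.coe_mul, Subgroup.coe_one] at h2
      rw [mul_eq_one_iff_eq_inv.1 h2, inv_eq_of_mul_eq_one_right h.z_sq]
    rw [if_pos hxz, ← hlam, hz]
    rw [show ((-1 : ℂ))⁻¹ = -1 by norm_num, neg_neg, if_pos rfl]
    ring
  · have hxz : (x : K) ≠ σ ^ q := fun e => hz (by
      rw [hlam, show x = ⟨σ ^ q, Subgroup.npow_mem_zpowers σ q⟩ from Subtype.ext e, h.l_z])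
    rw [if_neg hxz, if_neg fun e : -lam = 1 => hz (by rw [← e, neg_neg]),
      if_neg fun e : -lam⁻¹ = 1 => hz (by rw [← inv_inv lam, neg_eq_iff_eq_neg.1 e]; norm_num)]
    ring

end CfsgLib.Blocks.DihedralDefect
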