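import Cfsg.Agent.Lib.Blocks.DihedralDefect.Coeff
import Cfsg.Agent.Lib.Blocks.DihedralDefect.Combin
import Mathlib.LinearAlgebra.Dimension.Finrank
import Mathlib.LinearAlgebra.FiniteDimensional.Lemmas

/-!
# The invariants of a block with dihedral defect group, up to one exceptional configuration
-/

set_option autoImplicit false

namespace CfsgLib.Blocks.DihedralDefect

open Cfsg CfsgLib.Blocks CfsgLib.Pairs CfsgLib.Star CfsgLib.Char
open scoped Classical ComplexConjugate

variable {G : Type*} [Group G] [Fintype G] {M : Ideal AlgInt} [M.IsPrime] [Fact (Nat.Prime 2)]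
variable {H : Subgroup G} {B : Set (IrrCharacter G)}
  {b : Set (IrrCharacter H)} {D : Subgroup H} {σ τ : H} {q : ℕ} {l : Subgroup.zpowers σ →* ℂˣ}
  {e : Set (IrrCharacter (Subgroup.centralizer (D : Set H)))} {F : FusionSystem D}
  {ξ₀ : IrrCharacter H} {Φ : IrrCharacter D ≃ b} [Fintype (IrrCharacter D)]
  (C : Ctx M B b D σ τ q l e F ξ₀ Φ)
include C

omit [Fintype (IrrCharacter D)] in
theorem Ctx.exists_height_zero_mem :
    ∃ χ ∈ B, blockHeight 2 B (χ : G → ℂ) = 0 :=
  exists_height_zero (p := 2) (IsPBlock.nonempty C.ind.2.1)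

theorem Ctx.table : Table (Set.toFinite B).toFinset C.coef q
    (fun χ => (charDegree (χ : G → ℂ) : ℤ)) C.cc := by
  obtain ⟨hne, hodd, -⟩ := C.height_shape
  refine ⟨C.dih.two_le, C.dih.pow_two', fun i hi j hj => C.gram hi hj, fun j _ => C.sum_coef_degree j,
    fun χ _ => by exact_mod_cast charDegree_pos χ, C.cc_parity, by rw [C.sum_cc_sq]; push_cast; rfl,
    fun χ hχ => hne χ ((Set.Finite.mem_toFinset _).1 hχ), ?_, fun χ hχ => ?_⟩
  · obtain ⟨χ, hχ, h0⟩ := C.exists_height_zero_mem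
    exact ⟨χ, (Set.Finite.mem_toFinset _).2 hχ, hodd χ hχ h0⟩
  · by_contra hall
    push Not at hall
    refine hne χ ((Set.Finite.mem_toFinset _).1 hχ) (Finset.sum_eq_zero fun j hj => ?_)
    rw [Finset.mem_range] at hj
    suffices h : C.coef j χ = 0 by rw [h, mul_zero]
    by_cases h0 : j = 0
    · rw [h0, C.coef_zero]
    by_cases hjq : j ≤ q
    · exact hall j (Finset.mem_Icc.2 ⟨by omega, hjq⟩)
    · rw [show j = 2 * q - (2 * q - j) by omega, C.coef_symm (by omega)]
      exact hall _ (Finset.mem_Icc.2 ⟨by omega, by omega⟩)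

/-- Odd multiplicity is height zero. -/
theorem Ctx.height_eq_zero_iff {χ : IrrCharacter G} (hχ : χ ∈ B) :
    blockHeight 2 B (χ : G → ℂ) = 0 ↔ Odd (C.cc χ) := by
  obtain ⟨-, hodd, hdvd⟩ := C.height_shape
  refine ⟨hodd χ hχ, fun h => ?_⟩
  obtain ⟨ψ, hψ, hψ0⟩ := C.exists_height_zero_mem
  have h1 := hdvd χ hχ ψ hψ
  by_contra hne
  have h2 : (2 : ℤ) ∣ C.cc ψ * C.cc χ := (dvd_pow_self (2 : ℤ) hne).trans h1
  exact (Int.not_even_iff_odd.2 ((hodd ψ hψ hψ0).mul h)) (even_iff_two_dvd.2 h2)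

theorem Ctx.height_le_one {χ : IrrCharacter G} (hχ : χ ∈ B) (h : (C.cc χ).natAbs ≤ 2) :
    blockHeight 2 B (χ : G → ℂ) ≤ 1 := by
  obtain ⟨hne, hodd, hdvd⟩ := C.height_shape
  obtain ⟨ψ, hψ, hψ0⟩ := C.exists_height_zero_mem
  set k := blockHeight 2 B (χ : G → ℂ)
  have hcop : IsCoprime ((2 : ℤ) ^ k) (C.cc ψ) := by
    refine IsCoprime.pow_left ?_
    obtain ⟨m, hm⟩ := hodd ψ hψ hψ0
    exact ⟨-m, 1, by rw [hm]; ring⟩
  have h1 : (2 : ℤ) ^ k ∣ C.cc χ := hcop.dvd_of_dvd_mul_left (hdvd χ hχ ψ hψ)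
  have h2 := Int.natAbs_dvd_natAbs.2 h1
  rw [Int.natAbs_pow] at h2
  have h3 := Nat.le_of_dvd (by have := hne χ hχ; omega) h2
  by_contra hk
  have : 2 ^ 2 ≤ (2 : ℤ).natAbs ^ k := Nat.pow_le_pow_right (by norm_num) (by omega : 2 ≤ k)
  omega

/-- The vectors of multiplicities are independent. -/
theorem Ctx.linearIndependent_coef :
    LinearIndependent ℂ fun (j : Fin q) (χ : (Set.toFinite B).toFinset) =>
      (C.coef ((j : ℕ) + 1) χ.1 : ℂ) := by
  rw [Fintype.linearIndependent_iff]
  intro a ha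
  set S := (Set.toFinite B).toFinset with hS
  have hval : ∀ χ ∈ S, ∑ j : Fin q, a j * (C.coef ((j : ℕ) + 1) χ : ℂ) = 0 := fun χ hχ => by
    have := congrFun ha ⟨χ, hχ⟩
    simpa [Finset.sum_apply] using this
  have hrow : ∀ i : Fin q, 2 * (∑ j, a j) + a i + (if (i : ℕ) + 1 = q then a i else 0) = 0 := by
    intro i
    have hmem : ∀ k : Fin q, (k : ℕ) + 1 ∈ Finset.Icc 1 q := fun k =>
      Finset.mem_Icc.2 ⟨by omega, by omega⟩
    have h1 : ∑ χ ∈ S, (C.coef ((i : ℕ) + 1) χ : ℂ) *
        (∑ j : Fin q, a j * (C.coef ((j : ℕ) + 1) χ : ℂ)) = 0 :=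
      Finset.sum_eq_zero fun χ hχ => by rw [hval χ hχ, mul_zero]
    simp only [Finset.mul_sum] at h1
    rw [Finset.sum_comm, Finset.sum_congr rfl (g := fun j : Fin q => a j * 2 +
      ((if i = j then a j else 0) + if i = j then (if (i : ℕ) + 1 = q then a j else 0) else 0))
      fun j _ => ?_, Finset.sum_add_distrib, Finset.sum_add_distrib, ← Finset.sum_mul,
      Finset.sum_ite_eq, Finset.sum_ite_eq, if_pos (Finset.mem_univ i),
      if_pos (Finset.mem_univ i)] at h1
    · linear_combination h1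
    have h2 := congrArg (Int.cast : ℤ → ℂ) (C.gram (hmem i) (hmem j))
    rw [Finset.sum_congr rfl fun χ _ => mul_left_comm _ _ _, ← Finset.mul_sum]
    push_cast at h2
    rw [h2]
    by_cases hij : i = j
    · subst hij
      split_ifs <;> simp_all <;> ring
    · have : (i : ℕ) ≠ (j : ℕ) := fun e => hij (Fin.ext e)
      rw [if_neg this, if_neg hij, if_neg fun e : _ ∧ _ => this (by omega), if_neg hij]
      ring
  set S' := ∑ j, a j with hS'
  have hlast : ∀ i : Fin q, a i = if (i : ℕ) + 1 = q then -S' else -2 * S' := fun i => by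
    have := hrow i
    split_ifs at this ⊢
    · linear_combination this / 2
    · linear_combination this
  have hq := C.dih.two_le
  have hS0 : S' = 0 := by
    have h2 : S' = ∑ i : Fin q, ((-2 * S') + if i = (⟨q - 1, by omega⟩ : Fin q) then S' else 0) := by
      rw [hS']
      refine Finset.sum_congr rfl fun i _ => ?_
      rw [hlast i]
      by_cases hi : (i : ℕ) + 1 = q
      · rw [if_pos hi, if_pos (Fin.ext (by simp only; omega) : i = ⟨q - 1, _⟩)]
        ring
      · rw [if_neg hi, if_neg fun e => hi (by rw [e]; simp only; omega), add_zero]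
    rw [Finset.sum_add_distrib, Finset.sum_ite_eq', if_pos (Finset.mem_univ _), Finset.sum_const,
      Finset.card_univ, Fintype.card_fin, nsmul_eq_mul] at h2
    have h3 : (q : ℂ) * S' = 0 := by linear_combination h2 / 2
    exact (mul_eq_zero.1 h3).resolve_left (Nat.cast_ne_zero.2 (by omega))
  intro i
  rw [hlast i, hS0]
  simp

/-- The number of Brauer characters is at most the number of characters less `q`. -/
theorem Ctx.blockRank_add_le : blockRank 2 B + q ≤ Nat.card B := by
  set S := (Set.toFinite B).toFinset with hS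
  let L : (S → ℂ) →ₗ[ℂ] (G → ℂ) :=
    Fintype.linearCombination ℂ fun χ : S => pRegularPart 2 ((χ : IrrCharacter G) : G → ℂ)
  have hrange : LinearMap.range L =
      Submodule.span ℂ ((fun χ : IrrCharacter G => pRegularPart 2 (χ : G → ℂ)) '' B) := by
    rw [show L = Fintype.linearCombination ℂ fun χ : S => pRegularPart 2
      ((χ : IrrCharacter G) : G → ℂ) from rfl, Fintype.range_linearCombination]
    congr 1
    ext f
    simp only [Set.mem_range, Set.mem_image, Subtype.exists, hS, Set.Finite.mem_toFinset,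
      exists_prop]
  let v : Fin q → LinearMap.ker L := fun j => ⟨fun χ => (C.coef ((j : ℕ) + 1) χ.1 : ℂ), by
    rw [LinearMap.mem_ker]
    funext g
    rw [Fintype.linearCombination_apply, Finset.sum_apply, Pi.zero_apply]
    simp only [Pi.smul_apply, smul_eq_mul, pRegularPart]
    by_cases hg : IsPRegular 2 g
    · simp only [if_pos hg]
      rw [Finset.sum_coe_sort S (fun χ => (C.coef ((j : ℕ) + 1) χ : ℂ) * (χ : G → ℂ) g)]
      exact C.sum_coef_regular _ hg
    · simp [if_neg hg]⟩
  have hind : LinearIndependent ℂ v :=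
    LinearIndependent.of_comp (LinearMap.ker L).subtype C.linearIndependent_coef
  have h1 := L.finrank_range_add_finrank_ker
  rw [hrange, Module.finrank_fintype_fun_eq_card, Fintype.card_coe] at h1
  have h2 := hind.fintype_card_le_finrank
  rw [Fintype.card_fin] at h2
  rw [blockRank, Nat.card_coe_set_eq, Set.ncard_eq_toFinset_card B (Set.toFinite B), ← hS]
  omega

omit [Fintype (IrrCharacter D)] in
theorem Ctx.one_le_blockRank : 1 ≤ blockRank 2 B := by
  obtain ⟨χ, hχ, -⟩ := C.exists_height_zero_mem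
  have hne : pRegularPart 2 (χ : G → ℂ) ≠ 0 := fun e => by
    have := congrFun e 1
    rw [pRegularPart, if_pos (show IsPRegular 2 (1 : G) by simp [IsPRegular])] at this
    exact Char.IsIrr.apply_one_ne_zero χ.2 this
  rw [blockRank, ← finrank_span_singleton (K := ℂ) hne]
  exact Submodule.finrank_mono (Submodule.span_mono (Set.singleton_subset_iff.2 ⟨χ, hχ, rfl⟩))

/-- The invariants, in the regular configuration. -/
theorem Ctx.invariants_of_regular
    (h : (Set.toFinite B).toFinset.card = q + 3 ∧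
      ((Set.toFinite B).toFinset.filter fun χ => Odd (C.cc χ)).card = 4 ∧
      ∀ χ ∈ (Set.toFinite B).toFinset, (C.cc χ).natAbs ≤ 2) :
    Nat.card B = q + 3 ∧ 1 ≤ blockRank 2 B ∧ blockRank 2 B ≤ 3 ∧
      Nat.card {χ : IrrCharacter G // χ ∈ B ∧ blockHeight 2 B (χ : G → ℂ) = 0} = 4 ∧
      ∀ χ ∈ B, blockHeight 2 B (χ : G → ℂ) ≤ 1 := by
  obtain ⟨h1, h2, h3⟩ := h
  have hk : Nat.card B = q + 3 := by
    rw [Nat.card_coe_set_eq, Set.ncard_eq_toFinset_card B (Set.toFinite B), h1]
  refine ⟨hk, C.one_le_blockRank, by have := C.blockRank_add_le; omega, ?_,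
    fun χ hχ => C.height_le_one hχ (h3 χ ((Set.Finite.mem_toFinset _).2 hχ))⟩
  rw [← h2, ← Fintype.card_coe, ← Nat.card_eq_fintype_card]
  refine Nat.card_congr (Equiv.subtypeEquivRight fun χ => ?_)
  rw [Finset.mem_filter, Set.Finite.mem_toFinset]
  exact and_congr_right fun hχ => C.height_eq_zero_iff hχ

end CfsgLib.Blocks.DihedralDefect
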